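/-
Glueing sections over point stabilisers: a transitive group in which any three points have a
common neighbour has no bigger multiplier than a point stabiliser, provided the sections agree
along neighbours.
-/
import Cfsg.Agent.H74.SchurPerfect
import Cfsg.Agent.Linear.Mult.CentralQuot

set_option autoImplicit false
set_option linter.unusedSectionVars false

namespace Cfsg.Agent.H97.Omega

open Subgroup MulAction
open scoped commutatorElement

universe u v

/-- Every finite stem extension of `G` has kernel of order at most `N`. -/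
def MultLE (G : Type u) [Group G] (N : ℕ) : Prop :=
  ∀ (Γ : Type u) [Group Γ] [Finite Γ] (σ : Γ →* G), Cfsg.IsStemExtension σ → Nat.card σ.ker ≤ N

/-- A multiplier bound passes along isomorphisms. -/
theorem MultLE.congr {G H : Type u} [Group G] [Group H] {N : ℕ} (e : G ≃* H) (h : MultLE G N) :
    MultLE H N := by
  intro Γ _ _ σ hσ
  have hk : (e.symm.toMonoidHom.comp σ).ker = σ.ker := by
    ext x
    rw [MonoidHom.mem_ker, MonoidHom.mem_ker, MonoidHom.comp_apply]
    exact e.symm.map_eq_one_iff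
  have := h Γ (e.symm.toMonoidHom.comp σ)
    ⟨e.symm.surjective.comp hσ.1, hk.symm ▸ hσ.2.1, hk.symm ▸ hσ.2.2⟩
  rwa [hk] at this

/-- Trivial multiplier as a bound. -/
theorem multLE_one {G : Type u} [Group G] [Finite G] (h : Cfsg.HasCyclicSchurMultiplier G 1) :
    MultLE G 1 := fun Γ _ _ σ hσ => by
  rw [Cfsg.Agent.H74.Schur.ker_eq_bot_of_trivial h hσ, Subgroup.card_bot]

variable {E : Type u} {G : Type u} [Group E] [Group G] {S : Type v} [MulAction G S]

/-- The lifted stabiliser. -/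
def stabX (σ : E →* G) (a : S) : Subgroup E :=
  ⁅(stabilizer G a).comap σ, (stabilizer G a).comap σ⁆

theorem stabX_fix {σ : E →* G} {a : S} {x : E} (hx : x ∈ stabX σ a) : σ x • a = a :=
  (commutator_le_self _ hx : x ∈ (stabilizer G a).comap σ)

theorem stabX_onto {σ : E →* G} (hσ : Function.Surjective σ) {a : S}
    (hP : ⁅stabilizer G a, stabilizer G a⁆ = stabilizer G a) {g : G} (hg : g • a = a) :
    ∃ x ∈ stabX σ a, σ x = g := by
  have h : g ∈ (stabX σ a).map σ := by
    rw [stabX, map_commutator, map_comap_eq_self_of_surjective hσ, hP]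
    exact hg
  exact h

theorem stabX_conj {σ : E →* G} {a : S} {x : E} (hx : x ∈ stabX σ a) (e : E) :
    e * x * e⁻¹ ∈ stabX σ (σ e • a) := by
  have hle : (stabX σ a).map (MulAut.conj e).toMonoidHom ≤ stabX σ (σ e • a) := by
    rw [stabX, map_commutator]
    refine commutator_mono ?_ ?_ <;>
    · rintro _ ⟨y, hy, rfl⟩
      show σ (e * y * e⁻¹) • (σ e • a) = σ e • a
      rw [map_mul, map_mul, map_inv, mul_smul, inv_smul_smul, mul_smul]
      exact congrArg (σ e • ·) (hy : σ y • a = a)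
  exact hle (mem_map_of_mem _ hx)

/-- Sections agree on perfect intersections of stabilisers. -/
theorem stabX_agree {σ : E →* G} (hσ : Function.Surjective σ)
    (hinj : ∀ a : S, ∀ x ∈ stabX σ a, σ x = 1 → x = 1) {a d : S}
    (hP : ⁅stabilizer G a ⊓ stabilizer G d, stabilizer G a ⊓ stabilizer G d⁆ =
      stabilizer G a ⊓ stabilizer G d)
    {x y : E} (hx : x ∈ stabX σ a) (hy : y ∈ stabX σ d) (h : σ x = σ y) : x = y := by
  set P := (stabilizer G a ⊓ stabilizer G d).comap σ with hPdef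
  have hg : σ x ∈ (⁅P, P⁆).map σ := by
    rw [map_commutator, hPdef, map_comap_eq_self_of_surjective hσ, hP]
    exact ⟨stabX_fix hx, by rw [h]; exact stabX_fix hy⟩
  obtain ⟨w, hw, hwg⟩ := hg
  have ha : w ∈ stabX σ a := commutator_mono (comap_mono inf_le_left) (comap_mono inf_le_left) hw
  have hd : w ∈ stabX σ d := commutator_mono (comap_mono inf_le_right) (comap_mono inf_le_right) hw
  have e1 : w⁻¹ * x = 1 := hinj a _ (mul_mem (inv_mem ha) hx) (by simp [hwg])
  have e2 : w⁻¹ * y = 1 := hinj d _ (mul_mem (inv_mem hd) hy) (by simp [hwg, h])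
  exact mul_left_cancel (e1.trans e2.symm)

/-- Two neighbours give the same move from `a` to `b`. -/
def SameMove (σ : E →* G) (a b : S) (d d' : S) : Prop :=
  ∃ x ∈ stabX σ d, ∃ y ∈ stabX σ d', σ x • a = b ∧ σ y • a = b ∧ y⁻¹ * x ∈ stabX σ a

theorem SameMove.symm {σ : E →* G} {a b d d' : S} (h : SameMove σ a b d d') :
    SameMove σ a b d' d := by
  obtain ⟨x, hx, y, hy, hxa, hya, h⟩ := h
  exact ⟨y, hy, x, hx, hya, hxa, by simpa using inv_mem h⟩

/-- Composition of equal moves. -/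
theorem SameMove.trans {σ : E →* G} {a b d d' d'' : S} (hσ : Function.Surjective σ)
    (hinj : ∀ a : S, ∀ x ∈ stabX σ a, σ x = 1 → x = 1)
    (hP : ⁅stabilizer G a, stabilizer G a⁆ = stabilizer G a)
    (hPP : ⁅stabilizer G a ⊓ stabilizer G d', stabilizer G a ⊓ stabilizer G d'⁆ =
      stabilizer G a ⊓ stabilizer G d')
    (h : SameMove σ a b d d') (h' : SameMove σ a b d' d'') : SameMove σ a b d d'' := by
  obtain ⟨x, hx, y, hy, hxa, hya, hyx⟩ := h
  obtain ⟨y', hy', z, hz, hya', hza, hzy⟩ := h'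
  have hfix : σ (y'⁻¹ * y) • a = a := by
    rw [map_mul, map_inv, mul_smul, hya, inv_smul_eq_iff, hya']
  obtain ⟨w, hw, hwy⟩ := stabX_onto hσ hP hfix
  have hwm : y'⁻¹ * y ∈ stabX σ a := by
    rw [← stabX_agree hσ hinj hPP hw (mul_mem (inv_mem hy') hy) hwy]
    exact hw
  refine ⟨x, hx, z, hz, hxa, hza, ?_⟩
  have := mul_mem (mul_mem hzy hwm) hyx
  rwa [show z⁻¹ * y' * (y'⁻¹ * y) * (y⁻¹ * x) = z⁻¹ * x by group] at this

/-- The data of the glueing argument. -/
structure Sheaf (σ : E →* G) (R : S → S → Prop) : Prop where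
  surj : Function.Surjective σ
  symm : ∀ a b, R a b → R b a
  inv : ∀ (g : G) (a b : S), R a b → R (g • a) (g • b)
  inj : ∀ a : S, ∀ x ∈ stabX σ a, σ x = 1 → x = 1
  onto : ∀ a : S, ∀ g : G, g • a = a → ∃ x ∈ stabX σ a, σ x = g
  agree : ∀ a d : S, R a d → ∀ x ∈ stabX σ a, ∀ y ∈ stabX σ d, σ x = σ y → x = y
  nb : ∀ a b c : S, ∃ d, R a d ∧ R b d ∧ R c d
  move : ∀ a b d d' : S, R a d → R b d → R a d' → R b d' → SameMove σ a b d d'

namespace Sheaf

variable {σ : E →* G} {R : S → S → Prop} (L : Sheaf σ R)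
include L

/-- An element of a neighbour's section fixing `a` is in the section of `a`. -/
theorem mem_of_fix {a d : S} (h : R a d) {x : E} (hx : x ∈ stabX σ d) (hxa : σ x • a = a) :
    x ∈ stabX σ a := by
  obtain ⟨y, hy, hyx⟩ := L.onto a _ hxa
  rw [← L.agree a d h y hy x hx hyx]
  exact hy

theorem exists_move {a b d : S} (had : R a d) (hbd : R b d) :
    ∃ x ∈ stabX σ d, σ x • a = b := by
  obtain ⟨x, hx, -, -, hxa, -⟩ := L.move a b d d had hbd had hbd
  exact ⟨x, hx, hxa⟩

/-- All moves from `a` to `b` agree modulo the section of `a`. -/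
theorem same_coset {a b d d' : S} (h1 : R a d) (h2 : R b d) (h3 : R a d') (h4 : R b d')
    {x y : E} (hx : x ∈ stabX σ d) (hy : y ∈ stabX σ d') (hxa : σ x • a = b) (hya : σ y • a = b) :
    y⁻¹ * x ∈ stabX σ a := by
  obtain ⟨x₀, hx₀, y₀, hy₀, hxa₀, hya₀, h⟩ := L.move a b d d' h1 h2 h3 h4
  have fx : ∀ {u v : E}, σ u • a = b → σ v • a = b → σ (u⁻¹ * v) • a = a := by
    intro u v hu hv
    rw [map_mul, map_inv, mul_smul, hv, inv_smul_eq_iff, hu]
  have k1 := L.mem_of_fix h1 (mul_mem (inv_mem hx₀) hx) (fx hxa₀ hxa)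
  have k2 := L.mem_of_fix h3 (mul_mem (inv_mem hy) hy₀) (fx hya hya₀)
  have := mul_mem (mul_mem k2 h) k1
  rwa [show y⁻¹ * y₀ * (y₀⁻¹ * x₀) * (x₀⁻¹ * x) = y⁻¹ * x by group] at this

/-- The glued cosets. -/
def Cell (σ : E →* G) (R : S → S → Prop) (o : S) (e : E) : Prop :=
  ∃ d, R o d ∧ R (σ e • o) d ∧ ∃ x ∈ stabX σ d, σ x • o = σ e • o ∧ x⁻¹ * e ∈ stabX σ o

theorem cell_one (o : S) : Cell σ R o 1 := by
  obtain ⟨d, hd, -, -⟩ := L.nb o o o
  exact ⟨d, hd, by rwa [map_one, one_smul], 1, one_mem _, rfl, by simp⟩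

theorem cell_mul_self {o : S} {z e : E} (hz : z ∈ stabX σ o) (he : Cell σ R o e) :
    Cell σ R o (z * e) := by
  obtain ⟨d, hd, hd', x, hx, hxo, hxe⟩ := he
  have hzo := stabX_fix hz
  refine ⟨σ z • d, ?_, ?_, z * x * z⁻¹, stabX_conj hx z, ?_, ?_⟩
  · have := L.inv (σ z) _ _ hd
    rwa [hzo] at this
  · have := L.inv (σ z) _ _ hd'
    rwa [← mul_smul, ← map_mul] at this
  · rw [map_mul, map_mul, map_inv, mul_smul, inv_smul_eq_iff.2 hzo.symm, mul_smul, hxo, map_mul,
      mul_smul]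
  · rw [show (z * x * z⁻¹)⁻¹ * (z * e) = z * (x⁻¹ * e) by group]
    exact mul_mem hz hxe

theorem cell_mul_nb {o d₁ : S} (ho : R o d₁) {z e : E} (hz : z ∈ stabX σ d₁) (he : Cell σ R o e) :
    Cell σ R o (z * e) := by
  obtain ⟨d, hd, hd', x, hx, hxo, hxe⟩ := he
  set o' := σ z • o with ho'
  set o'' := σ (z * e) • o with ho''
  obtain ⟨c, hc, hc', hc''⟩ := L.nb o o' o''
  obtain ⟨x₁, hx₁, hx₁o⟩ := L.exists_move hc hc'
  obtain ⟨x₂, hx₂, hx₂o⟩ := L.exists_move hc' hc''
  refine ⟨c, hc, hc'', x₂ * x₁, mul_mem hx₂ hx₁, by rw [map_mul, mul_smul, hx₁o, hx₂o], ?_⟩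
  have hxz : z * x * z⁻¹ ∈ stabX σ (σ z • d) := stabX_conj hx z
  have k1 : x₂⁻¹ * (z * x * z⁻¹) ∈ stabX σ o' := by
    refine L.same_coset (L.inv (σ z) _ _ hd) ?_ hc' hc'' hxz hx₂ ?_ hx₂o
    · have := L.inv (σ z) _ _ hd'
      rwa [← mul_smul, ← map_mul] at this
    · rw [map_mul, map_mul, map_inv, mul_smul, inv_smul_smul, mul_smul, hxo, ho'', map_mul,
        mul_smul]
  have k2 : x₁⁻¹ * z ∈ stabX σ o :=
    L.same_coset ho (by
      have := L.inv (σ z) _ _ ho
      rwa [stabX_fix hz] at this) hc hc' hz hx₁ rfl hx₁o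
  have k3 := stabX_conj k1 x₁⁻¹
  rw [map_inv, show (σ x₁)⁻¹ • o' = o from inv_smul_eq_iff.2 hx₁o.symm, inv_inv] at k3
  have := mul_mem (mul_mem k3 k2) hxe
  rwa [show x₁⁻¹ * (x₂⁻¹ * (z * x * z⁻¹)) * x₁ * (x₁⁻¹ * z) * (x⁻¹ * e) =
    (x₂ * x₁)⁻¹ * (z * e) by group] at this

/-- The generators: the section at `o` and at its neighbours. -/
theorem stabX_le_closure (o a : S) :
    stabX σ a ≤ closure {x | x ∈ stabX σ o ∨ ∃ d, R o d ∧ x ∈ stabX σ d} := by
  obtain ⟨c, hc, hac, -⟩ := L.nb o a a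
  obtain ⟨k, hk, hka⟩ := L.exists_move hc hac
  intro x hx
  have h1 := stabX_conj hx k⁻¹
  rw [map_inv, show (σ k)⁻¹ • a = o from inv_smul_eq_iff.2 hka.symm, inv_inv] at h1
  have hk' : k ∈ closure {x | x ∈ stabX σ o ∨ ∃ d, R o d ∧ x ∈ stabX σ d} :=
    subset_closure (Or.inr ⟨c, hc, hk⟩)
  have := mul_mem (mul_mem hk' (subset_closure (Or.inl h1) :
    k⁻¹ * x * k ∈ closure {x | x ∈ stabX σ o ∨ ∃ d, R o d ∧ x ∈ stabX σ d})) (inv_mem hk')
  rwa [show k * (k⁻¹ * x * k) * k⁻¹ = x by group] at this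

theorem cell_of_mem (o : S) {e : E}
    (he : e ∈ closure {x | x ∈ stabX σ o ∨ ∃ d, R o d ∧ x ∈ stabX σ d}) : Cell σ R o e := by
  induction he using Subgroup.closure_induction_left with
  | one => exact L.cell_one o
  | mul_left z hz y _ hcy =>
    rcases hz with hz | ⟨d, hd, hz⟩
    · exact L.cell_mul_self hz hcy
    · exact L.cell_mul_nb hd hz hcy
  | inv_mul_cancel z hz y _ hcy =>
    rcases hz with hz | ⟨d, hd, hz⟩
    · exact L.cell_mul_self (inv_mem hz) hcy
    · exact L.cell_mul_nb hd (inv_mem hz) hcy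

/-- The sections generate a group meeting the kernel trivially. -/
theorem inj_iSup (o : S) {e : E} (he : e ∈ ⨆ a : S, stabX σ a) (h1 : σ e = 1) : e = 1 := by
  obtain ⟨d, hd, -, x, hx, hxo, hxe⟩ :=
    L.cell_of_mem o ((iSup_le fun a => L.stabX_le_closure o a) he)
  rw [h1, one_smul] at hxo
  have hxO := L.mem_of_fix hd hx hxo
  exact L.inj o e (by simpa using mul_mem hxO hxe) h1

/-- The sections cover the group. -/
theorem map_iSup (o : S) : (⨆ a : S, stabX σ a).map σ = ⊤ := by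
  rw [eq_top_iff]
  intro g _
  obtain ⟨d, hd, hd', -⟩ := L.nb o (g • o) o
  obtain ⟨x, hx, hxo⟩ := L.exists_move hd hd'
  obtain ⟨y, hy, hyg⟩ := L.onto o ((σ x)⁻¹ * g) (by rw [mul_smul, inv_smul_eq_iff, hxo])
  exact ⟨x * y, mul_mem (mem_iSup_of_mem d hx) (mem_iSup_of_mem o hy),
    by rw [map_mul, hyg, mul_inv_cancel_left]⟩

/-- A stem extension carrying such sections is trivial. -/
theorem ker_eq_bot (o : S) (hst : Cfsg.IsStemExtension σ) : σ.ker = ⊥ :=
  Cfsg.Agent.Linear.Mult.ker_eq_bot_of_lift hst _ (L.map_iSup o) fun _ he h1 => L.inj_iSup o he h1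

end Sheaf

/-- Group-level hypotheses of the glueing. -/
structure Geometry (G : Type u) [Group G] (S : Type v) [MulAction G S] (R : S → S → Prop) : Prop where
  symm : ∀ a b, R a b → R b a
  inv : ∀ (g : G) (a b : S), R a b → R (g • a) (g • b)
  transitive : ∀ a b : S, ∃ g : G, g • a = b
  stab_perfect : ∀ a : S, ⁅stabilizer G a, stabilizer G a⁆ = stabilizer G a
  pair_perfect : ∀ a d : S, R a d →
    ⁅stabilizer G a ⊓ stabilizer G d, stabilizer G a ⊓ stabilizer G d⁆ =
      stabilizer G a ⊓ stabilizer G d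
  nb : ∀ a b c : S, ∃ d, R a d ∧ R b d ∧ R c d

/-- A section at `o` with the kernel bounded by the multiplier of the stabiliser. -/
theorem card_inf_le {o : S} (hP : ⁅stabilizer G o, stabilizer G o⁆ = stabilizer G o) {N : ℕ}
    (hN : MultLE (stabilizer G o) N) {Γ : Type u} [Group Γ] [Finite Γ] {σ : Γ →* G}
    (hσ : Cfsg.IsStemExtension σ) : Nat.card ↥(σ.ker ⊓ stabX σ o) ≤ N := by
  obtain ⟨hs, hc, hd⟩ := hσ
  -- the section at `o` is a stem extension of the stabiliser
  let π : (stabX σ o) →* stabilizer G o :=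
    (σ.comp (stabX σ o).subtype).codRestrict _ fun x => stabX_fix (σ := σ) x.2
  let P := (stabilizer G o).comap σ
  let ρ : P →* stabilizer G o := (σ.comp P.subtype).codRestrict _ fun x => x.2
  have hρ : Function.Surjective ρ := fun g => by
    obtain ⟨x, hx⟩ := hs g.1
    exact ⟨⟨x, show σ x ∈ stabilizer G o from hx ▸ g.2⟩, Subtype.ext hx⟩
  have hperf : Group.IsPerfect (stabilizer G o) := Group.isPerfect_def.2 (by
    apply map_injective (stabilizer G o).subtype_injective
    rw [map_subtype_commutator, hP, ← MonoidHom.range_eq_map, range_subtype])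
  obtain ⟨-, hPP⟩ := Cfsg.Agent.H74.Schur.commutator_perfect hρ (fun x hx => by
    rw [mem_center_iff]
    intro y
    exact Subtype.ext (mem_center_iff.1 (hc (show x.1 ∈ σ.ker from congrArg Subtype.val hx)) y.1))
    hperf
  let ι : commutator P →* stabX σ o :=
    (P.subtype.comp (commutator P).subtype).codRestrict _ fun x => by
      have := mem_map_of_mem P.subtype x.2
      rwa [map_subtype_commutator] at this
  have hι : Function.Surjective ι := fun x => by
    have hx := x.2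
    have : (x : Γ) ∈ (commutator P).map P.subtype := by rw [map_subtype_commutator]; exact hx
    obtain ⟨y, hy, he⟩ := this
    exact ⟨⟨y, hy⟩, Subtype.ext he⟩
  have hπ : Cfsg.IsStemExtension π := by
    refine ⟨fun g => ?_, fun x hx => ?_, fun x _ => ?_⟩
    · obtain ⟨x, hx, he⟩ := stabX_onto hs (hP) g.2
      exact ⟨⟨x, hx⟩, Subtype.ext he⟩
    · rw [mem_center_iff]
      intro y
      exact Subtype.ext (mem_center_iff.1 (hc (show x.1 ∈ σ.ker from congrArg Subtype.val hx)) y.1)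
    · have h1 : (commutator (commutator P)).map ι = ⊤ := by
        rw [Group.isPerfect_def.1 hPP, map_top_of_surjective ι hι]
      rw [Cfsg.Agent.H74.Schur.map_commutator_of_surjective ι hι] at h1
      rw [h1]; exact mem_top x
  refine le_trans (le_of_eq ?_) (hN (stabX σ o) π hπ)
  exact Nat.card_congr
    { toFun := fun z => ⟨⟨z.1, z.2.2⟩, Subtype.ext z.2.1⟩
      invFun := fun z => ⟨z.1.1, congrArg Subtype.val z.2, z.1.2⟩
      left_inv := fun _ => rfl
      right_inv := fun _ => rfl }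

/-- The kernel of a stem extension is bounded by its intersection with one section. -/
theorem Geometry.card_ker_le {R : S → S → Prop} (T : Geometry G S R) (o : S) {N : ℕ}
    {Γ : Type u} [Group Γ] [Finite Γ] {σ : Γ →* G} (hσ : Cfsg.IsStemExtension σ)
    (hN : Nat.card ↥(σ.ker ⊓ stabX σ o) ≤ N)
    (hmove : ∀ {Δ : Type u} [Group Δ] [Finite Δ] (τ : Δ →* G), Cfsg.IsStemExtension τ →
      (∀ a : S, ∀ x ∈ stabX τ a, τ x = 1 → x = 1) →
      ∀ a b d d' : S, R a d → R b d → R a d' → R b d' → SameMove τ a b d d') :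
    Nat.card σ.ker ≤ N := by
  obtain ⟨hs, hc, hd⟩ := hσ
  set Z₀ : Subgroup Γ := σ.ker ⊓ stabX σ o with hZ₀
  have hZc : ∀ z ∈ Z₀, ∀ g : Γ, g * z = z * g := fun z hz => mem_center_iff.1 (hc hz.1)
  have hZn : Z₀.Normal := ⟨fun z hz g => by rw [hZc z hz g, mul_inv_cancel_right]; exact hz⟩
  -- the kernel meets every section in `Z₀`
  have hall : ∀ a : S, ∀ x ∈ stabX σ a, σ x = 1 → x ∈ Z₀ := by
    intro a x hx h1
    obtain ⟨g, hg⟩ := T.transitive a o
    obtain ⟨e, rfl⟩ := hs g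
    have h2 := stabX_conj hx e
    rw [hg, mem_center_iff.1 (hc (MonoidHom.mem_ker.2 h1)) e, mul_inv_cancel_right] at h2
    exact ⟨h1, h2⟩
  let τ : Γ ⧸ Z₀ →* G := QuotientGroup.lift Z₀ σ fun z hz => hz.1
  have hτs : Function.Surjective τ := fun g => by
    obtain ⟨x, hx⟩ := hs g; exact ⟨QuotientGroup.mk x, hx⟩
  have hτ : Cfsg.IsStemExtension τ := by
    refine ⟨hτs, fun y hy => ?_, fun y hy => ?_⟩
    · obtain ⟨x, rfl⟩ := QuotientGroup.mk_surjective y
      rw [mem_center_iff]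
      intro y'
      obtain ⟨x', rfl⟩ := QuotientGroup.mk_surjective y'
      exact congrArg (QuotientGroup.mk' Z₀) (mem_center_iff.1 (hc hy) x')
    · obtain ⟨x, rfl⟩ := QuotientGroup.mk_surjective y
      rw [_root_.commutator_def,
        ← map_top_of_surjective (QuotientGroup.mk' Z₀) (QuotientGroup.mk'_surjective Z₀),
        ← map_commutator, ← _root_.commutator_def]
      exact mem_map_of_mem _ (hd hy)
  have hinj : ∀ a : S, ∀ y ∈ stabX τ a, τ y = 1 → y = 1 := by
    intro a y hy h1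
    have hle : stabX τ a ≤ (stabX σ a).map (QuotientGroup.mk' Z₀) := by
      rw [stabX, stabX, map_commutator]
      refine commutator_mono ?_ ?_ <;>
      · intro z hz
        obtain ⟨x, rfl⟩ := QuotientGroup.mk_surjective z
        exact ⟨x, hz, rfl⟩
    obtain ⟨x, hx, rfl⟩ := hle hy
    exact (QuotientGroup.eq_one_iff x).2 (hall a x hx h1)
  have L : Sheaf τ R :=
    { surj := hτs, symm := T.symm, inv := T.inv, inj := hinj, nb := T.nb
      onto := fun a g hg => stabX_onto hτs (T.stab_perfect a) hg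
      agree := fun a d h x hx y hy => stabX_agree hτs hinj (T.pair_perfect a d h) hx hy
      move := hmove τ hτ hinj }
  have hker : σ.ker = Z₀ := by
    refine le_antisymm (fun x hx => ?_) inf_le_left
    have : (QuotientGroup.mk x : Γ ⧸ Z₀) ∈ τ.ker := hx
    rw [L.ker_eq_bot o hτ, mem_bot] at this
    exact (QuotientGroup.eq_one_iff x).1 this
  rw [hker]
  exact hN

/-- The multiplier is bounded by the multiplier of a point stabiliser. -/
theorem Geometry.multLE {R : S → S → Prop} (T : Geometry G S R) (o : S) {N : ℕ}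
    (hN : MultLE (stabilizer G o) N)
    (hmove : ∀ {Δ : Type u} [Group Δ] [Finite Δ] (τ : Δ →* G), Cfsg.IsStemExtension τ →
      (∀ a : S, ∀ x ∈ stabX τ a, τ x = 1 → x = 1) →
      ∀ a b d d' : S, R a d → R b d → R a d' → R b d' → SameMove τ a b d d') :
    MultLE G N := fun _ _ _ _ hσ =>
  T.card_ker_le o hσ (card_inf_le (T.stab_perfect o) hN hσ) hmove

end Cfsg.Agent.H97.Omega
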