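/-
The action of `Ω(Q)` on a sphere: vectors with prescribed value orthogonal to given ones, Witt's
lemma inside `Ω`, subgroups fixing the orthogonal complement of a subspace pointwise.
-/
import Cfsg.Agent.H97.Omega.Glue
import Cfsg.Agent.Orthogonal.Extend
import Cfsg.Agent.Orthogonal.Spinor
import Cfsg.Agent.Orthogonal.Dickson
import Cfsg.Agent.Orthogonal.Eichler

set_option autoImplicit false
set_option linter.unusedSectionVars false

namespace Cfsg.Agent.H97.Omega

open QuadraticMap Module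
open Cfsg.Agent.Orthogonal

variable {F V : Type*} [Field F] [AddCommGroup V] [Module F V]

/-- The sphere of value `c`. -/
def Sph (Q : QuadraticForm F V) (c : F) : Type _ := {v : V // Q v = c}

instance {Q : QuadraticForm F V} {c : F} : MulAction (commutator (O Q)) (Sph Q c) where
  smul g v := ⟨((g : O Q) : V ≃ₗ[F] V) v.1, (O.map_app (g : O Q) v.1).trans v.2⟩
  one_smul _ := Subtype.ext rfl
  mul_smul _ _ _ := Subtype.ext rfl

theorem sph_smul {Q : QuadraticForm F V} {c : F} (g : commutator (O Q)) (v : Sph Q c) :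
    (g • v).1 = ((g : O Q) : V ≃ₗ[F] V) v.1 := rfl

theorem mem_stab {Q : QuadraticForm F V} {c : F} {g : commutator (O Q)} {v : Sph Q c} :
    g ∈ MulAction.stabilizer (commutator (O Q)) v ↔ ((g : O Q) : V ≃ₗ[F] V) v.1 = v.1 := by
  rw [MulAction.mem_stabilizer_iff]
  exact Subtype.ext_iff

variable [FiniteDimensional F V] [Finite F] {Q : QuadraticForm F V}

/-- A value taken orthogonally to `S`, outside `S`. -/
theorem perp_value (hQ : Nondeg Q) (S P : Submodule F V) (hPS : P ≤ S)
    (hP : Nondeg (restr Q P)) (h : 2 * finrank F S + 2 ≤ finrank F V + finrank F P) (c : F) :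
    ∃ x ∈ perp Q S, Q x = c ∧ (c ≠ 0 → x ∉ S) := by
  set T := perp Q S with hT
  set R := S ⊓ T with hR
  obtain ⟨W, hW⟩ := Submodule.exists_isCompl R
  set C := T ⊓ W with hC
  have hRC : R ⊓ C = ⊥ := by
    rw [eq_bot_iff]
    exact fun x hx => hW.inf_eq_bot.le ⟨hx.1, hx.2.2⟩
  have hsup : T ≤ R ⊔ C := by
    intro x hx
    obtain ⟨r, hr, w, hw, rfl⟩ := Submodule.mem_sup.1
      (hW.sup_eq_top.symm ▸ Submodule.mem_top : x ∈ R ⊔ W)
    exact Submodule.add_mem_sup hr ⟨(Submodule.add_mem_iff_right T hr.2).1 hx, hw⟩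
  have hnd : Nondeg (restr Q C) := by
    rw [nondeg_restr_iff, eq_bot_iff]
    rintro x ⟨hxC, hxp⟩
    have hxT : x ∈ perp Q T := by
      intro y hy
      obtain ⟨r, hr, w, hw, rfl⟩ := Submodule.mem_sup.1 (hsup hy)
      rw [polar_add_left, hxC.1 r hr.1, hxp w hw, add_zero]
    rw [hT, hQ.perp_perp] at hxT
    exact hRC.le ⟨⟨hxT, hxC.1⟩, hxC⟩
  have hdim : finrank F R + finrank F P ≤ finrank F S := by
    have h1 := Submodule.finrank_sup_add_finrank_inf_eq R P
    have h2 : R ⊓ P = ⊥ := by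
      rw [eq_bot_iff]
      rintro x ⟨hxR, hxP⟩
      exact ((nondeg_restr_iff P).1 hP).le ⟨hxP, fun w hw => hxR.2 w (hPS hw)⟩
    rw [h2, finrank_bot] at h1
    have := Submodule.finrank_mono (show R ⊔ P ≤ S from sup_le inf_le_left hPS)
    omega
  have hC2 : 2 ≤ finrank F C := by
    have h1 := Submodule.finrank_sup_add_finrank_inf_eq R C
    rw [hRC, finrank_bot] at h1
    have h2 := Submodule.finrank_mono hsup
    have h3 := hQ.finrank_add_perp S
    rw [← hT] at h3
    omega
  obtain ⟨⟨x, hx⟩, hxc⟩ := hnd.exists_value hC2 c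
  refine ⟨x, hx.1, hxc, fun hc hxS => hc ?_⟩
  have h0 : x = 0 := (Submodule.mem_bot F).1 (hRC.le ⟨⟨hxS, hx.1⟩, hx⟩)
  rw [← hxc, restr_apply]
  dsimp only
  rw [h0]
  exact QuadraticMap.map_zero Q

theorem nondeg_restr_bot (Q : QuadraticForm F V) : Nondeg (restr Q (⊥ : Submodule F V)) :=
  fun x _ => Subtype.ext ((Submodule.mem_bot F).1 x.2)

theorem finrank_span_le {k : ℕ} (v : Fin k → V) :
    finrank F (Submodule.span F (Set.range v)) ≤ k :=
  (finrank_range_le_card v).trans (le_of_eq (Fintype.card_fin k))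

/-- A value orthogonal to finitely many vectors, given a non-degenerate part of their span. -/
theorem exists_orth_value (hQ : Nondeg Q) {k : ℕ} (v : Fin k → V) (P : Submodule F V)
    (hPS : P ≤ Submodule.span F (Set.range v)) (hP : Nondeg (restr Q P))
    (h : 2 * k + 2 ≤ finrank F V + finrank F P) (c : F) :
    ∃ x, (∀ i, polar Q (v i) x = 0) ∧ Q x = c ∧ (c ≠ 0 → x ∉ Submodule.span F (Set.range v)) := by
  obtain ⟨x, hx, hxc, hxS⟩ := perp_value hQ _ P hPS hP
    (by have := finrank_span_le (F := F) v; omega) c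
  exact ⟨x, fun i => hx _ (Submodule.subset_span ⟨i, rfl⟩), hxc, hxS⟩

/-- Any isometry can be moved into `Ω` by reflections orthogonal to given vectors. -/
theorem exists_adjust (hQ : Nondeg Q) (hn : Nat.card F ≠ 2 ∨ finrank F V ≠ 4) (K : Set V)
    (hC : ∀ c : F, ∃ x, (∀ k ∈ K, polar Q k x = 0) ∧ Q x = c) (g : O Q) :
    ∃ h : O Q, (∀ k ∈ K, (h : V ≃ₗ[F] V) k = k) ∧ h * g ∈ commutator (O Q) := by
  classical
  have fix : ∀ x, (∀ k ∈ K, polar Q k x = 0) → ∀ k ∈ K, (rO Q x : V ≃ₗ[F] V) k = k :=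
    fun x hx k hk => rO_fix (by rw [polar_comm]; exact hx k hk)
  by_cases h2 : (2 : F) = 0
  · have hgen := reflGroup_eq_top hQ hn
    by_cases hd : dickson hQ hgen g = 1
    · exact ⟨1, fun _ _ => rfl, by
        rw [commutator_eq_ker_dickson hQ hgen h2, MonoidHom.mem_ker, one_mul, hd]⟩
    · obtain ⟨x, hx, hxc⟩ := hC 1
      refine ⟨rO Q x, fix x hx, ?_⟩
      rw [commutator_eq_ker_dickson hQ hgen h2, MonoidHom.mem_ker, map_mul,
        dickson_rO hQ hgen (by rw [hxc]; exact one_ne_zero), (Int.units_eq_one_or _).resolve_left hd]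
      rfl
  · obtain ⟨ν, hν⟩ := FiniteField.exists_nonsquare (F := F) (by
      intro hc
      haveI := ringChar.of_eq hc
      exact h2 (CharTwo.two_eq_zero (R := F)))
    have hν0 : ν ≠ 0 := fun h => hν (h ▸ IsSquare.zero)
    obtain ⟨x, hx, hxc⟩ := hC 1
    obtain ⟨y, hy, hyc⟩ := hC ν
    have hx0 : Q x ≠ 0 := by rw [hxc]; exact one_ne_zero
    have hy0 : Q y ≠ 0 := by rw [hyc]; exact hν0
    have sx : spinor Q hQ h2 (rO Q x) = 1 := by
      rw [spinor_rO hQ h2 hx0, hxc, sqSign_of_isSquare IsSquare.one]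
    have sy : spinor Q hQ h2 (rO Q y) = -1 := by
      rw [spinor_rO hQ h2 hy0, hyc, sqSign_of_not_isSquare hν]
    simp only [mem_commutator_iff hQ h2, map_mul]
    rcases Int.units_eq_one_or (detSign Q hQ h2 g) with hd | hd <;>
      rcases Int.units_eq_one_or (spinor Q hQ h2 g) with hs | hs
    · exact ⟨1, fun _ _ => rfl, by simp [hd, hs]⟩
    · refine ⟨rO Q x * rO Q y, fun k hk => ?_, ?_⟩
      · rw [Subgroup.coe_mul, Orthogonal.mul_app, fix y hy k hk, fix x hx k hk]
      · simp [map_mul, sx, sy, hd, hs, detSign_rO hQ h2 hx0, detSign_rO hQ h2 hy0]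
    · exact ⟨rO Q x, fix x hx, by simp [sx, hd, hs, detSign_rO hQ h2 hx0]⟩
    · exact ⟨rO Q y, fix y hy, by simp [sy, hd, hs, detSign_rO hQ h2 hy0]⟩

/-- Witt's lemma in `Ω`. -/
theorem exists_om_family (hQ : Nondeg Q) (hn : Nat.card F ≠ 2 ∨ finrank F V ≠ 4) {k : ℕ}
    {v w : Fin k → V} (hv : LinearIndependent F v) (hw : LinearIndependent F w)
    (hd : ∀ i, Q (w i) = Q (v i))
    (ho : ∀ i j, i ≠ j → polar Q (w i) (w j) = polar Q (v i) (v j))
    (P : Submodule F V) (hPS : P ≤ Submodule.span F (Set.range w)) (hP : Nondeg (restr Q P))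
    (h : 2 * k + 2 ≤ finrank F V + finrank F P) :
    ∃ g : commutator (O Q), ∀ i, ((g : O Q) : V ≃ₗ[F] V) (v i) = w i := by
  obtain ⟨g, hg⟩ := exists_map_family hQ hv hw hd ho
  obtain ⟨a, ha, hag⟩ := exists_adjust hQ hn (Set.range w) (fun c => by
    obtain ⟨x, hx, hxc, -⟩ := exists_orth_value hQ w P hPS hP h c
    exact ⟨x, by rintro _ ⟨i, rfl⟩; exact hx i, hxc⟩) g
  refine ⟨⟨a * g, hag⟩, fun i => ?_⟩
  show ((a * g : O Q) : V ≃ₗ[F] V) (v i) = w i
  rw [Subgroup.coe_mul, Orthogonal.mul_app, hg, ha _ ⟨i, rfl⟩]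

/-- The span of a vector of non-zero norm in odd characteristic. -/
theorem nondeg_span_one (h2 : (2 : F) ≠ 0) {a : V} (ha : Q a ≠ 0) :
    Nondeg (restr Q (Submodule.span F {a})) ∧ finrank F (Submodule.span F {a}) = 1 := by
  refine ⟨?_, finrank_span_singleton fun h => ha (by rw [h]; exact QuadraticMap.map_zero Q)⟩
  rw [nondeg_restr_iff, eq_bot_iff]
  rintro x ⟨hx, hxp⟩
  obtain ⟨t, rfl⟩ := Submodule.mem_span_singleton.1 hx
  have h := (mem_perp_span_singleton Q).1 hxp
  rw [polar_smul_right', polar_self', mul_eq_zero] at h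
  rcases h with h | h
  · rw [h, zero_smul]; exact Submodule.zero_mem _
  · exact absurd h (mul_ne_zero h2 ha)

/-- The span of two vectors with invertible Gram matrix. -/
theorem nondeg_span_two {a b : V} (h : (2 * Q a) * (2 * Q b) - polar Q a b ^ 2 ≠ 0) :
    Nondeg (restr Q (Submodule.span F {a, b})) ∧ finrank F (Submodule.span F {a, b}) = 2 ∧
      LinearIndependent F ![a, b] := by
  have key : ∀ s t : F, polar Q a (s • a + t • b) = 0 → polar Q b (s • a + t • b) = 0 →
      s = 0 ∧ t = 0 := by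
    intro s t h1 h2
    simp only [polar_add_right, polar_smul_right', polar_self', polar_comm (⇑Q) b a] at h1 h2
    constructor <;> refine (mul_eq_zero.1 ?_).resolve_right h
    · linear_combination (2 * Q b) * h1 - polar Q a b * h2
    · linear_combination (2 * Q a) * h2 - polar Q a b * h1
  have hli : LinearIndependent F ![a, b] := by
    rw [LinearIndependent.pair_iff]
    intro s t hst
    exact key s t (by rw [hst, polar_zero_right]) (by rw [hst, polar_zero_right])
  refine ⟨?_, ?_, hli⟩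
  · rw [nondeg_restr_iff, eq_bot_iff]
    rintro x ⟨hx, hxp⟩
    obtain ⟨s, t, rfl⟩ := Submodule.mem_span_pair.1 hx
    obtain ⟨h1, h2⟩ := (mem_perp_span_pair Q).1 hxp
    obtain ⟨rfl, rfl⟩ := key s t h1 h2
    simp
  · have := finrank_span_eq_card hli
    rwa [Matrix.range_cons, Matrix.range_cons, Matrix.range_empty, Set.union_empty,
      Set.singleton_union, Fintype.card_fin] at this

/-- The elements of `Ω` fixing the orthogonal complement of `W` pointwise. -/
def omFix (Q : QuadraticForm F V) (W : Submodule F V) : Subgroup (commutator (O Q)) where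
  carrier := {g | ∀ y ∈ perp Q W, ((g : O Q) : V ≃ₗ[F] V) y = y}
  one_mem' _ _ := rfl
  mul_mem' {g h} hg hh y hy := by
    show ((g : O Q) : V ≃ₗ[F] V) (((h : O Q) : V ≃ₗ[F] V) y) = y
    rw [hh y hy, hg y hy]
  inv_mem' {g} hg y hy := by
    conv_lhs => rw [← hg y hy]
    show (((g⁻¹ * g : commutator (O Q)) : O Q) : V ≃ₗ[F] V) y = y
    rw [inv_mul_cancel]; rfl

theorem mem_omFix {W : Submodule F V} {g : commutator (O Q)} :
    g ∈ omFix Q W ↔ ∀ y ∈ perp Q W, ((g : O Q) : V ≃ₗ[F] V) y = y := Iff.rfl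

/-- `Ω` of a non-degenerate subspace inside `Ω`. -/
noncomputable def omHom (hQ : Nondeg Q) {W : Submodule F V} (hW : Nondeg (restr Q W)) :
    commutator (O (restr Q W)) →* commutator (O Q) :=
  ((extendO hQ hW).comp (commutator (O (restr Q W))).subtype).codRestrict (commutator (O Q))
    fun g => by
      have : (commutator (O (restr Q W))).map (extendO hQ hW) ≤ commutator (O Q) := by
        rw [commutator_def, Subgroup.map_commutator, commutator_def]
        exact Subgroup.commutator_mono le_top le_top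
      exact this (Subgroup.mem_map_of_mem _ g.2)

theorem omHom_injective (hQ : Nondeg Q) {W : Submodule F V} (hW : Nondeg (restr Q W)) :
    Function.Injective (omHom hQ hW) := fun a b hab =>
  Subtype.ext (extendO_injective hQ hW (congrArg Subtype.val hab))

/-- In odd characteristic the subgroup fixing `perp W` is `Ω(W)`. -/
theorem omHom_range (hQ : Nondeg Q) (h2 : (2 : F) ≠ 0) {W : Submodule F V}
    (hW : Nondeg (restr Q W)) : (omHom hQ hW).range = omFix Q W := by
  have hd : (detSign Q hQ h2).comp (extendO hQ hW) = detSign (restr Q W) hW h2 :=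
    hom_ext_rO hW h2 fun w hw => by
      rw [MonoidHom.comp_apply, extendO_rO, detSign_rO hW h2 hw]
      exact detSign_rO hQ h2 hw
  have hs : (spinor Q hQ h2).comp (extendO hQ hW) = spinor (restr Q W) hW h2 :=
    hom_ext_rO hW h2 fun w hw => by
      rw [MonoidHom.comp_apply, extendO_rO, spinor_rO hW h2 hw]
      exact spinor_rO hQ h2 hw
  ext g
  constructor
  · rintro ⟨w, rfl⟩ y hy
    exact extendO_app_perp hQ hW _ hy
  · intro hg
    obtain ⟨w, hw⟩ := (mem_range_extendO hQ hW (g : O Q)).2 hg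
    refine ⟨⟨w, (mem_commutator_iff hW h2 w).2 ?_⟩, Subtype.ext hw⟩
    rw [← hd, ← hs, MonoidHom.comp_apply, MonoidHom.comp_apply, hw]
    exact (mem_commutator_iff hQ h2 _).1 g.2

/-- `Ω(W)` is perfect from dimension five on. -/
theorem omFix_perfect (hQ : Nondeg Q) (h2 : (2 : F) ≠ 0) {W : Submodule F V}
    (hW : Nondeg (restr Q W)) (h5 : 5 ≤ finrank F W) :
    ⁅omFix Q W, omFix Q W⁆ = omFix Q W := by
  rw [← omHom_range hQ h2 hW, MonoidHom.range_eq_map, ← Subgroup.map_commutator]
  congr 1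
  apply Subgroup.map_injective (commutator (O (restr Q W))).subtype_injective
  rw [Subgroup.map_commutator, ← MonoidHom.range_eq_map, Subgroup.range_subtype]
  exact commutator_commutator hW h5

/-- The stabiliser of a vector fixes the span pointwise. -/
theorem stab_eq_omFix (hQ : Nondeg Q) {c : F} (v : Sph Q c) :
    MulAction.stabilizer (commutator (O Q)) v = omFix Q (perp Q (Submodule.span F {v.1})) := by
  ext g
  rw [mem_stab, mem_omFix, hQ.perp_perp]
  refine ⟨fun h y hy => ?_, fun h => h _ (Submodule.mem_span_singleton_self _)⟩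
  obtain ⟨t, rfl⟩ := Submodule.mem_span_singleton.1 hy
  rw [map_smul, h]

theorem pair_eq_omFix (hQ : Nondeg Q) {c : F} (v w : Sph Q c) :
    MulAction.stabilizer (commutator (O Q)) v ⊓ MulAction.stabilizer (commutator (O Q)) w =
      omFix Q (perp Q (Submodule.span F {v.1, w.1})) := by
  ext g
  rw [Subgroup.mem_inf, mem_stab, mem_stab, mem_omFix, hQ.perp_perp]
  refine ⟨fun h y hy => ?_, fun h => ⟨h _ (Submodule.subset_span (by simp)),
    h _ (Submodule.subset_span (by simp))⟩⟩
  obtain ⟨s, t, rfl⟩ := Submodule.mem_span_pair.1 hy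
  rw [map_add, map_smul, map_smul, h.1, h.2]

end Cfsg.Agent.H97.Omega
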