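/-
Odd characteristic: the multiplier of `Ω(Q)` is bounded by that of `Ω` of the complement of a
vector.
-/
import Cfsg.Agent.H97.Omega.Sphere

set_option autoImplicit false
set_option linter.unusedSectionVars false
set_option maxHeartbeats 1000000

namespace Cfsg.Agent.H97.Omega

open QuadraticMap Module
open Cfsg.Agent.Orthogonal

universe u v

variable {F : Type u} {V : Type v} [Field F] [AddCommGroup V] [Module F V] [FiniteDimensional F V]
  [Finite F] {Q : QuadraticForm F V}

/-- Orthogonality on a sphere. -/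
def Orth (Q : QuadraticForm F V) (c : F) (a b : Sph Q c) : Prop := polar Q a.1 b.1 = 0

theorem card_ne_two (h2 : (2 : F) ≠ 0) : Nat.card F ≠ 2 := by
  intro h
  have := Fintype.ofFinite F
  rw [Nat.card_eq_fintype_card] at h
  have h0 := Nat.cast_card_eq_zero F
  rw [h] at h0
  exact h2 (by exact_mod_cast h0)

/-- Orthogonal vectors of non-zero norm are independent. -/
theorem li_orth (h2 : (2 : F) ≠ 0) {k : ℕ} (v : Fin k → V) (hv : ∀ i, Q (v i) ≠ 0)
    (ho : ∀ i j, i ≠ j → polar Q (v i) (v j) = 0) : LinearIndependent F v := by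
  classical
  rw [Fintype.linearIndependent_iff]
  intro g hg i
  have h := congrArg (Q.polarBilin (v i)) hg
  rw [map_sum, map_zero, Finset.sum_eq_single i] at h
  · rw [map_smul, smul_eq_mul, polarBilin_apply', polar_self', mul_eq_zero] at h
    exact h.resolve_right (mul_ne_zero h2 (hv i))
  · intro j _ hj
    rw [map_smul, smul_eq_mul, polarBilin_apply', ho i j hj.symm, mul_zero]
  · intro h; exact absurd (Finset.mem_univ i) h

variable {c : F} (hQ : Nondeg Q) (h2 : (2 : F) ≠ 0) (hc : c ≠ 0) (h7 : 7 ≤ finrank F V)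
include hQ h2 hc h7

theorem odd_hn : Nat.card F ≠ 2 ∨ finrank F V ≠ 4 := Or.inl (card_ne_two h2)

/-- An isometry in `Ω` fixing two orthogonal sphere vectors and moving `a` to `b`. -/
theorem exists_move_two {a b d e : Sph Q c} (hde : Orth Q c d e) (had : Orth Q c a d)
    (hae : Orth Q c a e) (hbd : Orth Q c b d) (hbe : Orth Q c b e) :
    ∃ g : commutator (O Q), g • d = d ∧ g • e = e ∧ g • a = b := by
  have hq : ∀ x : Sph Q c, Q x.1 ≠ 0 := fun x => by rw [x.2]; exact hc
  obtain ⟨g, hg⟩ := exists_om_family hQ (odd_hn hQ h2 hc h7) (v := ![d.1, e.1, a.1])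
    (w := ![d.1, e.1, b.1])
    (li_orth (Q := Q) h2 _ (by intro i; fin_cases i <;> simp [hq]) (by
      intro i j hij
      fin_cases i <;> fin_cases j <;> simp at hij ⊢ <;> first
        | exact hde | exact (polar_comm _ _ _).trans hde | exact had | exact (polar_comm _ _ _).trans had
        | exact hae | exact (polar_comm _ _ _).trans hae))
    (li_orth (Q := Q) h2 _ (by intro i; fin_cases i <;> simp [hq]) (by
      intro i j hij
      fin_cases i <;> fin_cases j <;> simp at hij ⊢ <;> first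
        | exact hde | exact (polar_comm _ _ _).trans hde | exact hbd | exact (polar_comm _ _ _).trans hbd
        | exact hbe | exact (polar_comm _ _ _).trans hbe))
    (by intro i; fin_cases i <;> simp [a.2, b.2])
    (by
      have k1 : polar Q d.1 a.1 = 0 := (polar_comm _ _ _).trans had
      have k2 : polar Q e.1 a.1 = 0 := (polar_comm _ _ _).trans hae
      have k3 : polar Q d.1 b.1 = 0 := (polar_comm _ _ _).trans hbd
      have k4 : polar Q e.1 b.1 = 0 := (polar_comm _ _ _).trans hbe
      intro i j hij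
      fin_cases i <;> fin_cases j <;> simp at hij ⊢ <;>
        simp [k1, k2, k3, k4, polar_comm (⇑Q) a.1, polar_comm (⇑Q) b.1])
    (Submodule.span F {d.1}) (Submodule.span_mono (by simp)) (nondeg_span_one h2 (hq d)).1
    (by rw [(nondeg_span_one h2 (hq d)).2]; omega)
  exact ⟨g, Subtype.ext (hg 0), Subtype.ext (hg 1), Subtype.ext (hg 2)⟩

theorem odd_geometry : Geometry (commutator (O Q)) (Sph Q c) (Orth Q c) := by
  have hq : ∀ x : Sph Q c, Q x.1 ≠ 0 := fun x => by rw [x.2]; exact hc
  refine ⟨fun a b h => (polar_comm _ _ _).trans h, fun g a b h => ?_, fun a b => ?_, fun a => ?_,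
    fun a d h => ?_, fun a b e => ?_⟩
  · show polar Q _ _ = 0
    rw [sph_smul, sph_smul, O.polar_app]
    exact h
  · obtain ⟨g, hg⟩ := exists_om_family hQ (odd_hn hQ h2 hc h7) (v := ![a.1]) (w := ![b.1])
      (li_orth (Q := Q) h2 _ (by intro i; fin_cases i; simp [hq]) (by intro i j h; fin_cases i; fin_cases j; simp at h))
      (li_orth (Q := Q) h2 _ (by intro i; fin_cases i; simp [hq]) (by intro i j h; fin_cases i; fin_cases j; simp at h))
      (by intro i; fin_cases i; simp [a.2, b.2]) (by intro i j h; fin_cases i; fin_cases j; simp at h)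
      (Submodule.span F {b.1}) (Submodule.span_mono (by simp)) (nondeg_span_one h2 (hq b)).1
      (by rw [(nondeg_span_one h2 (hq b)).2]; omega)
    exact ⟨g, Subtype.ext (hg 0)⟩
  · obtain ⟨h1, h1'⟩ := nondeg_span_one h2 (hq a)
    rw [stab_eq_omFix hQ a]
    refine omFix_perfect hQ h2 (hQ.nondeg_perp h1) ?_
    have := hQ.finrank_add_perp (Submodule.span F {a.1})
    omega
  · obtain ⟨h1, h1', -⟩ := nondeg_span_two (Q := Q) (a := a.1) (b := d.1) (by
      rw [show polar Q a.1 d.1 = 0 from h, a.2, d.2]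
      simp [h2, hc])
    rw [pair_eq_omFix hQ a d]
    refine omFix_perfect hQ h2 (hQ.nondeg_perp h1) ?_
    have := hQ.finrank_add_perp (Submodule.span F {a.1, d.1})
    omega
  · obtain ⟨x, hx, hxc, -⟩ := exists_orth_value hQ ![a.1, b.1, e.1] (Submodule.span F {a.1})
      (Submodule.span_mono (by simp)) (nondeg_span_one h2 (hq a)).1
      (by rw [(nondeg_span_one h2 (hq a)).2]; omega) c
    exact ⟨⟨x, hxc⟩, hx 0, hx 1, hx 2⟩

variable {Γ : Type v} [Group Γ] {σ : Γ →* commutator (O Q)} (hσ : Function.Surjective σ)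
  (hinj : ∀ a : Sph Q c, ∀ x ∈ stabX σ a, σ x = 1 → x = 1)
include hσ hinj

/-- One step: orthogonal neighbours give the same move. -/
theorem sameMove_step {a b d e : Sph Q c} (hde : Orth Q c d e) (had : Orth Q c a d)
    (hae : Orth Q c a e) (hbd : Orth Q c b d) (hbe : Orth Q c b e) : SameMove σ a b d e := by
  have T := odd_geometry hQ h2 hc h7
  obtain ⟨g, gd, ge, ga⟩ := exists_move_two hQ h2 hc h7 hde had hae hbd hbe
  obtain ⟨x, hx, hxg⟩ := stabX_onto hσ (T.stab_perfect d) gd
  obtain ⟨y, hy, hyg⟩ := stabX_onto hσ (T.stab_perfect e) ge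
  refine ⟨x, hx, y, hy, by rw [hxg, ga], by rw [hyg, ga], ?_⟩
  rw [stabX_agree hσ hinj (T.pair_perfect d e hde) hx hy (hxg.trans hyg.symm), inv_mul_cancel]
  exact one_mem _

/-- Two steps through a common neighbour. -/
theorem sameMove_via {a b d d' : Sph Q c} (had : Orth Q c a d) (hbd : Orth Q c b d)
    (had' : Orth Q c a d') (hbd' : Orth Q c b d') {e : V} (he : Q e = c)
    (h : ∀ i, polar Q (![a.1, b.1, d.1, d'.1] i) e = 0) : SameMove σ a b d d' := by
  have T := odd_geometry hQ h2 hc h7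
  let e' : Sph Q c := ⟨e, he⟩
  have ha : Orth Q c a e' := h 0
  have hb : Orth Q c b e' := h 1
  exact (sameMove_step hQ h2 hc h7 hσ hinj (e := e') (h 2) had ha hbd hb).trans hσ hinj
    (T.stab_perfect a) (T.pair_perfect a e' ha)
    (sameMove_step hQ h2 hc h7 hσ hinj (d := e') (T.symm _ _ (h 3)) ha had' hb hbd')

/-- Two neighbours spanning a non-degenerate plane. -/
theorem sameMove_nondeg {a b d d' : Sph Q c} (had : Orth Q c a d) (hbd : Orth Q c b d)
    (had' : Orth Q c a d') (hbd' : Orth Q c b d') (hne : polar Q d.1 d'.1 ^ 2 ≠ (2 * c) ^ 2) :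
    SameMove σ a b d d' := by
  have k0 : polar Q d.1 a.1 = 0 := (polar_comm _ _ _).trans had
  have k1 : polar Q d'.1 a.1 = 0 := (polar_comm _ _ _).trans had'
  have key : ∀ r s t : F, polar Q a.1 (r • a.1 + s • d.1 + t • d'.1) = 0 →
      polar Q d.1 (r • a.1 + s • d.1 + t • d'.1) = 0 →
      polar Q d'.1 (r • a.1 + s • d.1 + t • d'.1) = 0 → r = 0 ∧ s = 0 ∧ t = 0 := by
    intro r s t e1 e2 e3
    simp only [polar_add_right, polar_smul_right', polar_self', a.2, d.2, d'.2, k0, k1,
      show polar Q a.1 d.1 = 0 from had, show polar Q a.1 d'.1 = 0 from had',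
      polar_comm (⇑Q) d'.1 d.1, mul_zero, add_zero, zero_add] at e1 e2 e3
    have hD : (2 * c) ^ 2 - polar Q d.1 d'.1 ^ 2 ≠ 0 := sub_ne_zero.2 (Ne.symm hne)
    refine ⟨(mul_eq_zero.1 e1).resolve_right (mul_ne_zero h2 hc), ?_, ?_⟩ <;>
      refine (mul_eq_zero.1 ?_).resolve_right hD
    · linear_combination (2 * c) * e2 - polar Q d.1 d'.1 * e3
    · linear_combination (2 * c) * e3 - polar Q d.1 d'.1 * e2
  set P := Submodule.span F (Set.range ![a.1, d.1, d'.1]) with hP
  have hexp : ∀ x ∈ P, ∃ r s t : F, x = r • a.1 + s • d.1 + t • d'.1 := by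
    intro x hx
    obtain ⟨f, rfl⟩ := (Submodule.mem_span_range_iff_exists_fun F).1 hx
    exact ⟨f 0, f 1, f 2, by simp [Fin.sum_univ_three]⟩
  have hnd : Nondeg (restr Q P) := by
    rw [nondeg_restr_iff, eq_bot_iff]
    rintro x ⟨hx, hxp⟩
    obtain ⟨r, s, t, rfl⟩ := hexp x hx
    obtain ⟨rfl, rfl, rfl⟩ := key r s t (hxp _ (Submodule.subset_span ⟨0, rfl⟩))
      (hxp _ (Submodule.subset_span ⟨1, rfl⟩)) (hxp _ (Submodule.subset_span ⟨2, rfl⟩))
    simp
  have hfin : finrank F P = 3 := by
    have hli : LinearIndependent F ![a.1, d.1, d'.1] := by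
      rw [Fintype.linearIndependent_iff]
      intro f hf
      simp only [Fin.sum_univ_three, Matrix.cons_val_zero, Matrix.cons_val_one,
        Matrix.cons_val_two, Matrix.head_cons, Matrix.tail_cons] at hf
      obtain ⟨h0, h1, h2'⟩ := key (f 0) (f 1) (f 2) (by rw [hf, polar_zero_right])
        (by rw [hf, polar_zero_right]) (by rw [hf, polar_zero_right])
      intro i; fin_cases i <;> assumption
    rw [hP, finrank_span_eq_card hli, Fintype.card_fin]
  obtain ⟨x, hx, hxc, -⟩ := exists_orth_value hQ ![a.1, b.1, d.1, d'.1] P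
    (Submodule.span_mono (by rintro _ ⟨i, rfl⟩; fin_cases i <;> simp)) hnd (by omega) c
  exact sameMove_via hQ h2 hc h7 hσ hinj had hbd had' hbd' hxc hx

/-- All neighbours give the same move. -/
theorem sameMove_all (h58 : 5 ≤ Nat.card F ∨ 8 ≤ finrank F V) {a b d d' : Sph Q c}
    (had : Orth Q c a d) (hbd : Orth Q c b d) (had' : Orth Q c a d') (hbd' : Orth Q c b d') :
    SameMove σ a b d d' := by
  classical
  have := Fintype.ofFinite F
  have T := odd_geometry hQ h2 hc h7
  by_cases h8 : 8 ≤ finrank F V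
  · obtain ⟨hn, hf, -⟩ := nondeg_span_two (Q := Q) (a := a.1) (b := d.1) (by
      rw [show polar Q a.1 d.1 = 0 from had, a.2, d.2]; simp [h2, hc])
    obtain ⟨x, hx, hxc, -⟩ := exists_orth_value hQ ![a.1, b.1, d.1, d'.1]
      (Submodule.span F {a.1, d.1}) (Submodule.span_mono (by
        rintro y (rfl | rfl) <;> simp)) hn (by omega) c
    exact sameMove_via hQ h2 hc h7 hσ hinj had hbd had' hbd' hxc hx
  have h5 : 5 ≤ Fintype.card F := by rw [← Nat.card_eq_fintype_card]; omega
  by_cases hne : polar Q d.1 d'.1 ^ 2 = (2 * c) ^ 2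
  swap
  · exact sameMove_nondeg hQ h2 hc h7 hσ hinj had hbd had' hbd' hne
  obtain ⟨σ', hσ', hdd⟩ : ∃ s : F, s ^ 2 = 1 ∧ polar Q d.1 d'.1 = s * (2 * c) := by
    rcases sq_eq_sq_iff_eq_or_eq_neg.1 hne with h | h
    · exact ⟨1, one_pow 2, by rw [one_mul]; exact h⟩
    · exact ⟨-1, by norm_num, by rw [neg_one_mul]; exact h⟩
  set r := d'.1 - σ' • d.1 with hr
  have rd : polar Q d.1 r = 0 := by
    rw [hr, polar_sub_right, polar_smul_right', polar_self', d.2, hdd, sub_self]
  have ra : polar Q a.1 r = 0 := by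
    rw [hr, polar_sub_right, polar_smul_right', show polar Q a.1 d'.1 = 0 from had',
      show polar Q a.1 d.1 = 0 from had, mul_zero, sub_zero]
  have rb : polar Q b.1 r = 0 := by
    rw [hr, polar_sub_right, polar_smul_right', show polar Q b.1 d'.1 = 0 from hbd',
      show polar Q b.1 d.1 = 0 from hbd, mul_zero, sub_zero]
  have rQ : Q r = 0 := by
    rw [hr, qmap_sub, qmap_smul, polar_smul_right', polar_comm (⇑Q) d'.1 d.1, hdd, d.2, d'.2]
    linear_combination (-c) * hσ'
  by_cases hrS : r ∈ Submodule.span F (Set.range ![a.1, b.1, d.1])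
  · obtain ⟨x, hx, hxc, -⟩ := exists_orth_value hQ ![a.1, b.1, d.1] (Submodule.span F {a.1})
      (Submodule.span_mono (by simp)) (nondeg_span_one h2 (by rw [a.2]; exact hc)).1
      (by rw [(nondeg_span_one h2 (show Q a.1 ≠ 0 by rw [a.2]; exact hc)).2]; omega) c
    refine sameMove_via hQ h2 hc h7 hσ hinj had hbd had' hbd' hxc fun i => ?_
    fin_cases i
    · exact hx 0
    · exact hx 1
    · exact hx 2
    · show polar Q d'.1 x = 0
      have hrx : polar Q r x = 0 := by
        obtain ⟨f, hf⟩ := (Submodule.mem_span_range_iff_exists_fun F).1 hrS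
        rw [← hf, Fin.sum_univ_three, polar_add_left, polar_add_left, polar_smul_left',
          polar_smul_left', polar_smul_left', hx 0, hx 1, hx 2]
        ring
      rw [show d'.1 = r + σ' • d.1 by rw [hr, sub_add_cancel], polar_add_left, polar_smul_left',
        hrx, show polar Q d.1 x = 0 from hx 2, mul_zero, add_zero]
  obtain ⟨φ, hφr, hφS⟩ := Submodule.exists_dual_map_eq_bot_of_notMem hrS inferInstance
  obtain ⟨f₀, hf₀⟩ := hQ.exists_repr ((φ r)⁻¹ • φ)
  have f0z : ∀ i, polar Q (![a.1, b.1, d.1] i) f₀ = 0 := fun i => by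
    have h0 : φ (![a.1, b.1, d.1] i) ∈ (Submodule.span F (Set.range ![a.1, b.1, d.1])).map φ :=
      Submodule.mem_map_of_mem (Submodule.subset_span ⟨i, rfl⟩)
    rw [hφS, Submodule.mem_bot] at h0
    rw [polar_comm, hf₀, LinearMap.smul_apply, h0, smul_zero]
  have fr : polar Q r f₀ = 1 := by
    rw [polar_comm, hf₀, LinearMap.smul_apply, smul_eq_mul, inv_mul_cancel₀ hφr]
  set f := f₀ - Q f₀ • r with hf
  have fQ : Q f = 0 := by
    rw [hf, qmap_sub, qmap_smul, polar_smul_right', polar_comm (⇑Q) f₀ r, fr, rQ]; ring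
  have frr : polar Q r f = 1 := by
    rw [hf, polar_sub_right, polar_smul_right', polar_self', rQ, fr]; ring
  obtain ⟨t, ht0, ht1, ht2⟩ : ∃ t : F, t ≠ 0 ∧ t ≠ 2 * c ∧ t ≠ -(2 * c) := by
    by_contra hall
    push Not at hall
    have hsub : (Finset.univ : Finset F) ⊆ {0, 2 * c, -(2 * c)} := by
      intro t _
      simp only [Finset.mem_insert, Finset.mem_singleton]
      by_cases h0 : t = 0
      · exact Or.inl h0
      by_cases h1 : t = 2 * c
      · exact Or.inr (Or.inl h1)
      exact Or.inr (Or.inr (hall t h0 h1))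
    have := (Finset.card_le_card hsub).trans Finset.card_le_three
    rw [Finset.card_univ] at this
    omega
  set e := t • f + (c / t) • r with he
  have eQ : Q e = c := by
    rw [he, map_add_polar, qmap_smul, qmap_smul, fQ, rQ, polar_smul_left', polar_smul_right',
      polar_comm (⇑Q) f r, frr]
    field_simp
    ring
  have e3 : ∀ x : V, polar Q x f₀ = 0 → polar Q x r = 0 → polar Q x e = 0 := fun x h1 h2 => by
    rw [he, hf, polar_add_right, polar_smul_right', polar_smul_right', polar_sub_right,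
      polar_smul_right', h1, h2]
    ring
  let e' : Sph Q c := ⟨e, eQ⟩
  have ea : Orth Q c a e' := e3 _ (f0z 0) ra
  have eb : Orth Q c b e' := e3 _ (f0z 1) rb
  have ed : Orth Q c d e' := e3 _ (f0z 2) rd
  refine (sameMove_step hQ h2 hc h7 hσ hinj ed had ea hbd eb).trans hσ hinj (T.stab_perfect a)
    (T.pair_perfect a e' ea) (sameMove_nondeg hQ h2 hc h7 hσ hinj ea eb had' hbd' ?_)
  have hed' : polar Q e d'.1 = t := by
    have her : polar Q e r = t := by
      rw [he, polar_add_left, polar_smul_left', polar_smul_left', polar_comm (⇑Q) f r, frr,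
        polar_self', rQ]
      ring
    rw [show d'.1 = r + σ' • d.1 by rw [hr, sub_add_cancel], polar_add_right, polar_smul_right', her,
      polar_comm (⇑Q) e d.1, show polar Q d.1 e = 0 from ed, mul_zero, add_zero]
  show polar Q e d'.1 ^ 2 ≠ (2 * c) ^ 2
  rw [hed']
  intro h
  rcases sq_eq_sq_iff_eq_or_eq_neg.1 h with h | h
  exacts [ht1 h, ht2 h]

omit hσ hinj

/-- Induction step in odd characteristic: from `Ω` of the complement of a vector to `Ω(Q)`. -/
theorem multLE_odd_step (h58 : 5 ≤ Nat.card F ∨ 8 ≤ finrank F V) {N : ℕ} (a : V) (ha : Q a = c)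
    (hN : MultLE (commutator (O (restr Q (perp Q (Submodule.span F {a}))))) N) :
    MultLE (commutator (O Q)) N := by
  have T := odd_geometry hQ h2 hc h7
  let o : Sph Q c := ⟨a, ha⟩
  have hnd := (nondeg_span_one h2 (show Q a ≠ 0 by rw [ha]; exact hc)).1
  refine T.multLE o (MultLE.congr ?_ hN) fun τ hτ hinj a b d d' h1 h2' h3 h4 =>
    sameMove_all hQ h2 hc h7 hτ.1 hinj h58 h1 h2' h3 h4
  exact (MonoidHom.ofInjective (omHom_injective hQ (hQ.nondeg_perp hnd))).trans
    (MulEquiv.subgroupCongr ((omHom_range hQ h2 (hQ.nondeg_perp hnd)).trans (stab_eq_omFix hQ o).symm))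

end Cfsg.Agent.H97.Omega
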