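/-
Odd characteristic: the multiplier of `Ω` in dimension six of plus type, and the induction from it
for fields with at least five elements.
-/
import Cfsg.Agent.H97.Omega.OddStep
import Cfsg.Agent.Orthogonal.POmega
import Cfsg.Agent.Orthogonal.StdForms
import Cfsg.Agent.S0302
import Cfsg.Agent.S2086
import Cfsg.Agent.S0790

set_option autoImplicit false
set_option linter.unusedSectionVars false
set_option maxHeartbeats 1000000

namespace Cfsg.Agent.H97.Omega

open QuadraticMap Module
open Cfsg.Agent.Orthogonal Cfsg.Agent.Orthogonal.IsFrame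
open Cfsg.Agent.H74.Schur (exists_stem_small mem_center_of_map_mem_center isPerfect_iff)

universe u v w w'

/-- A multiplier bound passes along isomorphisms between universes. -/
theorem MultLE.congr' {G : Type w} {H : Type w'} [Group G] [Group H] {N : ℕ} (e : G ≃* H)
    (h : MultLE G N) : MultLE H N := by
  intro Γ _ _ σ hσ
  have hk : (e.symm.toMonoidHom.comp σ).ker = σ.ker := by
    ext x
    rw [MonoidHom.mem_ker, MonoidHom.mem_ker, MonoidHom.comp_apply]
    exact e.symm.map_eq_one_iff
  have hst : Cfsg.IsStemExtension (e.symm.toMonoidHom.comp σ) :=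
    ⟨e.symm.surjective.comp hσ.1, hk.symm ▸ hσ.2.1, hk.symm ▸ hσ.2.2⟩
  obtain ⟨Δ, hΔ, hΔf, τ, hτ, ⟨i⟩⟩ := exists_stem_small hst
  refine le_trans (le_of_eq ?_) (h Δ τ hτ)
  rw [← hk]
  exact Nat.card_congr i.toEquiv

/-- A stem extension of a perfect group followed by a central quotient. -/
theorem stem_comp {Γ : Type w} {G : Type w'} {K : Type u} [Group Γ] [Group G] [Group K] [Finite Γ]
    (hG : Group.IsPerfect G) {σ : Γ →* G} (hσ : Cfsg.IsStemExtension σ) {π : G →* K}
    (hπ : Function.Surjective π) (hc : π.ker ≤ Subgroup.center G) :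
    Group.IsPerfect Γ ∧ Cfsg.IsStemExtension (π.comp σ) ∧
      Nat.card (π.comp σ).ker = Nat.card σ.ker * Nat.card π.ker := by
  have hperf : Group.IsPerfect Γ := by
    refine isPerfect_iff.2 (eq_top_iff.2 fun a _ => ?_)
    obtain ⟨d, hd, hde⟩ : σ a ∈ (commutator Γ).map σ := by
      rw [Cfsg.Agent.H74.Schur.map_commutator_of_surjective σ hσ.1, isPerfect_iff.1 hG]
      exact Subgroup.mem_top _
    have := mul_mem hd (hσ.2.2 (show d⁻¹ * a ∈ σ.ker by
      rw [MonoidHom.mem_ker, map_mul, map_inv, hde, inv_mul_cancel]))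
    rwa [mul_inv_cancel_left] at this
  refine ⟨hperf, ⟨hπ.comp hσ.1, fun x hx => mem_center_of_map_mem_center hperf hσ.2.1 fun y =>
      (Subgroup.mem_center_iff.1 (hc (show σ x ∈ π.ker from hx)) (σ y)).symm,
    by rw [isPerfect_iff.1 hperf]; exact le_top⟩, ?_⟩
  rw [← MonoidHom.comap_ker, ← Subgroup.card_mul_index (σ.ker.subgroupOf (π.ker.comap σ))]
  congr 1
  · exact Nat.card_congr (Subgroup.subgroupOfEquivOfLe (by
      intro x hx
      rw [Subgroup.mem_comap, MonoidHom.mem_ker.1 hx]
      exact one_mem _)).toEquiv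
  · show σ.ker.relIndex (π.ker.comap σ) = _
    rw [← MonoidHom.comap_bot σ, Subgroup.relIndex_comap, Subgroup.map_comap_eq_self_of_surjective hσ.1,
      Subgroup.relIndex_bot_left]

variable {F : Type u} [Field F] [Finite F]

/-- `Ω` of isometric spaces. -/
noncomputable def omCongr {V : Type v} {V' : Type w} [AddCommGroup V] [Module F V] [AddCommGroup V']
    [Module F V'] {Q : QuadraticForm F V} {Q' : QuadraticForm F V'} (e : V ≃ₗ[F] V')
    (he : ∀ x, Q' (e x) = Q x) : commutator (O Q) ≃* commutator (O Q') :=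
  ((congrO e he).subgroupMap _).trans (MulEquiv.subgroupCongr
    (Cfsg.Agent.H74.Schur.map_commutator_of_surjective (congrO e he).toMonoidHom (congrO e he).surjective))

theorem multLE_six_plus (h2 : (2 : F) ≠ 0) : MultLE (commutator (O (formPlus F 3))) 2 := by
  classical
  have := Fintype.ofFinite F
  set Q := formPlus F 3 with hQdef
  have hQ : Nondeg Q := formPlus_nondeg F 3
  have hn : 5 ≤ finrank F (Fin 3 ⊕ Fin 3 → F) := by rw [finrank_formPlus]; omega
  have hodd : Odd (Fintype.card F) :=
    Nat.card_eq_fintype_card (α := F) ▸ odd_natCard_of_two_ne_zero h2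
  have hperfO : Group.IsPerfect (commutator (O Q)) := Group.isPerfect_def.2 (by
    apply Subgroup.map_injective (commutator (O Q)).subtype_injective
    rw [Subgroup.map_subtype_commutator, commutator_commutator hQ hn, ← MonoidHom.range_eq_map,
      Subgroup.range_subtype])
  have hperf : Group.IsPerfect (Cfsg.Omega F (⇑Q)) := by
    rw [Group.isPerfect_def]
    have := Cfsg.Agent.H74.Schur.map_commutator_of_surjective (omegaEquiv Q).symm.toMonoidHom
      (omegaEquiv Q).symm.surjective
    rw [Group.isPerfect_def.1 hperfO, Subgroup.map_top_of_surjective _ (omegaEquiv Q).symm.surjective]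
      at this
    exact this.symm
  obtain ⟨e⟩ := Cfsg.Agent.S0302.result (F := F)
  refine MultLE.congr' (omegaEquiv Q) ?_
  intro Γ _ _ σ hσ
  let Z := Subgroup.center (Cfsg.Omega F (⇑Q))
  let π : Cfsg.Omega F (⇑Q) →* Cfsg.POmega F (⇑Q) := QuotientGroup.mk' Z
  obtain ⟨-, hst, hcard⟩ := stem_comp hperf hσ (π := π) (QuotientGroup.mk'_surjective Z)
    (QuotientGroup.ker_mk' Z).le
  let τ : Γ →* Matrix.ProjectiveSpecialLinearGroup (Fin 4) F := e.toMonoidHom.comp (π.comp σ)
  have hk : τ.ker = (π.comp σ).ker := by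
    ext x
    rw [MonoidHom.mem_ker, MonoidHom.mem_ker, MonoidHom.comp_apply]
    exact e.map_eq_one_iff
  have hτ : Cfsg.IsStemExtension τ :=
    ⟨e.surjective.comp hst.1, hk.symm ▸ hst.2.1, hk.symm ▸ hst.2.2⟩
  have h5 : 3 ≤ Fintype.card F := by
    have := Fintype.one_lt_card (α := F)
    obtain ⟨k, hk⟩ := hodd
    omega
  obtain ⟨f, hf⟩ := Cfsg.Agent.H74.Schur.exists_surjective_ker
    (Cfsg.Agent.S2086.result (F := F) rfl 4 (by omega) (by omega) (by simp; omega)) hτ
  have hle : Nat.card σ.ker * Nat.card Z ≤ Nat.gcd 4 (Fintype.card F - 1) := by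
    have : NeZero (Nat.gcd 4 (Fintype.card F - 1)) := ⟨(Nat.gcd_pos_of_pos_left _ (by norm_num)).ne'⟩
    have : Finite (Multiplicative (ZMod (Nat.gcd 4 (Fintype.card F - 1)))) :=
      Finite.of_equiv _ Multiplicative.ofAdd
    have := Nat.card_le_card_of_surjective f hf
    rw [hk, hcard, QuotientGroup.ker_mk', Nat.card_congr Multiplicative.toAdd, Nat.card_zmod] at this
    exact this
  rcases (show Fintype.card F % 4 = 1 ∨ Fintype.card F % 4 = 3 by
    obtain ⟨k, hk⟩ := hodd; omega) with h4 | h4
  · obtain ⟨g, hg, hgm⟩ := (Cfsg.Agent.S0790.result (F := F) rfl hodd 3 (by omega)).2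
      (by rw [Nat.pow_mod, h4])
    have hne : (-1 : Matrix (Fin 3 ⊕ Fin 3) (Fin 3 ⊕ Fin 3) F) ≠ 1 := fun h => by
      have := congr_fun (congr_fun h (Sum.inl 0)) (Sum.inl 0)
      rw [Matrix.neg_apply, Matrix.one_apply_eq] at this
      exact h2 (by linear_combination -this)
    have hZ : Nat.card Z = 2 := card_center_omega_eq_two hQ hn hne g hg hgm
    rw [hZ] at hle
    have := Nat.gcd_le_left (Fintype.card F - 1) (show 0 < 4 by norm_num)
    omega
  · have hg : Nat.gcd 4 (Fintype.card F - 1) = 2 := by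
      rw [Nat.gcd_rec, show (Fintype.card F - 1) % 4 = 2 by omega]
      decide
    rw [hg] at hle
    exact le_trans (Nat.le_mul_of_pos_right _ Nat.card_pos) hle

variable {V : Type v} [AddCommGroup V] [Module F V] [FiniteDimensional F V] {Q : QuadraticForm F V}

/-- The hyperbolic part of a frame with three pairs. -/
theorem multLE_hspan_three (hQ : Nondeg Q) (h2 : (2 : F) ≠ 0) {e f : Fin 3 → V}
    (h : IsFrame Q e f) : MultLE (commutator (O (restr Q (hspan (F := F) e f)))) 2 := by
  let W := hspan (F := F) e f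
  let e' : Fin 3 → W := fun i => ⟨e i, mem_hspan_l e f i⟩
  let f' : Fin 3 → W := fun i => ⟨f i, mem_hspan_r e f i⟩
  have h' : IsFrame (restr Q W) e' f' :=
    ⟨fun i => h.qe i, fun i => h.qf i, fun i j => by rw [polar_restr]; exact h.ef i j,
      fun i j => by rw [polar_restr]; exact h.ee i j, fun i j => by rw [polar_restr]; exact h.ff i j⟩
  obtain ⟨E, -, -, hE⟩ := h'.equiv_formPlus (h.nondeg_hspan) h.finrank_hspan
  exact MultLE.congr' (omCongr E hE) (multLE_six_plus h2)

/-- A frame with three pairs in a space of dimension at least seven. -/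
theorem exists_frame_three (hQ : Nondeg Q) (h7 : 7 ≤ finrank F V) :
    ∃ e f : Fin 3 → V, IsFrame Q e f := by
  obtain ⟨k, e, f, hef, hA⟩ := hQ.exists_frame
  have hk : 3 ≤ k := by
    by_contra hk
    have h1 := hef.finrank_kernel hQ
    have h2' := finrank_le_two_of_aniso (hef.nondeg_kernel hQ) hA
    omega
  exact ⟨fun i => e (Fin.castLE hk i), fun i => f (Fin.castLE hk i), hef.take hk⟩

/-- Fields with at least five elements: the multiplier of `Ω` is at most two from dimension seven on. -/
theorem multLE_big (h2 : (2 : F) ≠ 0) (h5 : 5 ≤ Nat.card F) :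
    ∀ (n : ℕ) {V : Type v} [AddCommGroup V] [Module F V] [FiniteDimensional F V]
      {Q : QuadraticForm F V}, Nondeg Q → finrank F V = n → 7 ≤ n →
      MultLE (commutator (O Q)) 2 := by
  intro n
  induction n with
  | zero => intro V _ _ _ Q _ _ h; omega
  | succ n ih =>
    intro V _ _ _ Q hQ hn h7
    rcases Nat.eq_or_lt_of_le h7 with h | h
    · obtain ⟨e, f, hef⟩ := exists_frame_three hQ (by omega)
      have hK := hef.finrank_kernel hQ
      have hk1 : finrank F (kernel Q e f) = 1 := by omega
      obtain ⟨⟨a, ha⟩, ha0⟩ : ∃ a : kernel Q e f, restr Q _ a ≠ 0 := by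
        have : Nontrivial (kernel Q e f) := Module.nontrivial_of_finrank_pos (R := F) (by omega)
        obtain ⟨x, hx⟩ := exists_ne (0 : kernel Q e f)
        exact exists_anisotropic (hef.nondeg_kernel hQ) hx
      have hQa : Q a ≠ 0 := ha0
      have hperp : perp Q (Submodule.span F {a}) = hspan (F := F) e f := by
        obtain ⟨hn1, hf1⟩ := nondeg_span_one h2 hQa
        refine (Submodule.eq_of_le_of_finrank_eq ?_ ?_).symm
        · intro x hx
          rw [mem_perp_span_singleton, polar_comm]
          exact ha x hx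
        · have := hQ.finrank_add_perp (Submodule.span F {a})
          have := hef.finrank_hspan
          omega
      refine multLE_odd_step hQ h2 hQa (by omega) (Or.inl h5) a rfl ?_
      rw [hperp]
      exact multLE_hspan_three hQ h2 hef
    · obtain ⟨a, ha⟩ := hQ.exists_value (show 2 ≤ finrank F V by omega) 1
      have hQa : Q a ≠ 0 := by rw [ha]; exact one_ne_zero
      obtain ⟨hn1, hf1⟩ := nondeg_span_one h2 hQa
      refine multLE_odd_step hQ h2 one_ne_zero (by omega) (Or.inl h5) a ha
        (ih (hQ.nondeg_perp hn1) ?_ (by omega))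
      have := hQ.finrank_add_perp (Submodule.span F {a})
      omega

end Cfsg.Agent.H97.Omega
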