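/-
The stabiliser of a vector in a symplectic group of characteristic two is perfect.
-/
import Cfsg.Agent.H97.SpCover.Lift
import Cfsg.Agent.Orthogonal.Frame

set_option autoImplicit false
set_option linter.unusedSimpArgs false
set_option linter.unusedSectionVars false
set_option maxHeartbeats 1000000

namespace Cfsg.Agent.H97.Omega

open LinearMap (BilinForm)
open Cfsg.Agent.Symplectic
open Cfsg.Agent.H97.SpCover (tI exists_isom_map isom_stab qL li_of_dual tvGen)

variable {F V : Type*} [Field F] [Finite F] [AddCommGroup V] [Module F V] [FiniteDimensional F V]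
  {B : BilinForm F V}

/-- The stabiliser of a vector. -/
def spFix (B : BilinForm F V) (t : V) : Subgroup (Isom B) where
  carrier := {g | g.1 t = t}
  one_mem' := rfl
  mul_mem' {g h} hg hh := by
    show g.1 (h.1 t) = t
    rw [hh, hg]
  inv_mem' {g} hg := by
    show g.1.symm t = t
    rw [LinearEquiv.symm_apply_eq, hg]

theorem mem_spFix {t : V} {g : Isom B} : g ∈ spFix B t ↔ g.1 t = t := Iff.rfl

variable (hA : B.IsAlt) (hB : B.Nondegenerate) (h2 : (2 : F) = 0)
include hA hB h2

theorem sp_six (t u w : V) (htu : B t u = 0) (htw : B t w = 0) (huw : B u w = 0) (c : F) :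
    tI hA t c = tI hA (t + u + w) c * tI hA (t + u) c * tI hA (t + w) c * tI hA (u + w) c *
      tI hA u c * tI hA w c := by
  have h1 : B u t = 0 := by rw [alt_swap hA, htu, neg_zero]
  have h2' : B w t = 0 := by rw [alt_swap hA, htw, neg_zero]
  have h3 : B w u = 0 := by rw [alt_swap hA, huw, neg_zero]
  refine Subtype.ext (LinearEquiv.ext fun x => ?_)
  simp only [tI, Subgroup.coe_mul, SpCover.mul_app, tv_apply, map_add, map_smul, LinearMap.add_apply,
    LinearMap.smul_apply, smul_eq_mul, alt_self hA, htu, htw, huw, h1, h2', h3, mul_zero, add_zero,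
    zero_add, zero_smul]
  have : CharP F 2 := CharTwo.of_one_ne_zero_of_two_eq_zero one_ne_zero h2
  match_scalars <;> ring_nf <;> simp [CharTwo.two_eq_zero, show (3 : F) = 1 by linear_combination h2,
        show (4 : F) = 0 by linear_combination 2 * h2]

/-- The stabiliser of a non-zero vector is perfect. -/
theorem spFix_perfect (h6 : 6 ≤ Module.finrank F V)
    (hq : Nat.card F ≠ 2 ∨ 8 ≤ Module.finrank F V) {t : V} (ht : t ≠ 0) :
    ⁅spFix B t, spFix B t⁆ = spFix B t := by
  classical
  refine le_antisymm (Subgroup.commutator_le_self _) fun g hg => ?_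
  set D := ⁅spFix B t, spFix B t⁆ with hD
  have htI : ∀ b c, B t b = 0 → tI hA b c ∈ spFix B t := fun b c hb => by
    rw [mem_spFix]
    show tv hA b c t = t
    rw [tv_apply, hb, mul_zero, zero_smul, add_zero]
  have hconj : ∀ (h : Isom B) b c, h * tI hA b c * h⁻¹ = tI hA (h.1 b) c := fun h b c =>
    Subtype.ext (tv_conj hA h.2 b c)
  have hsm : ∀ (s : F) b c, tI hA (s • b) c = tI hA b (s ^ 2 * c) := fun s b c =>
    Subtype.ext (tv_smul hA b s c)
  have partner : ∀ b, b ∉ Submodule.span F {t} → ∃ p, B b p = 1 ∧ B t p = 0 := by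
    intro b hb
    obtain ⟨φ, hφb, hφt⟩ := Submodule.exists_dual_map_eq_bot_of_notMem hb inferInstance
    obtain ⟨p, hp⟩ := exists_rep hB hA ⊤ (((φ b)⁻¹ • φ).comp (Submodule.subtype ⊤))
    refine ⟨p, ?_, ?_⟩
    · rw [hp ⟨b, Submodule.mem_top⟩]
      simp [hφb]
    · have h0 : φ t ∈ (Submodule.span F {t}).map φ :=
        Submodule.mem_map_of_mem (Submodule.mem_span_singleton_self t)
      rw [hφt, Submodule.mem_bot] at h0
      rw [hp ⟨t, Submodule.mem_top⟩]
      simp [h0]
  -- conjugacy of the transvections with centres off the line of `t`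
  have move : ∀ b b', B t b = 0 → B t b' = 0 → b ∉ Submodule.span F {t} →
      b' ∉ Submodule.span F {t} → ∃ h ∈ spFix B t, h.1 b = b' := by
    intro b b' hb hb' hn hn'
    have li : ∀ x, x ∉ Submodule.span F {t} → LinearIndependent F ![t, x] := fun x hx => by
      rw [LinearIndependent.pair_iff]
      intro r s hrs
      have hs : s = 0 := by
        by_contra hs
        refine hx (Submodule.mem_span_singleton.2 ⟨-(s⁻¹ * r), ?_⟩)
        rw [neg_smul, mul_smul, eq_neg_of_add_eq_zero_left hrs, smul_neg, neg_neg, smul_smul,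
          inv_mul_cancel₀ hs, one_smul]
      rw [hs, zero_smul, add_zero, smul_eq_zero] at hrs
      exact ⟨hrs.resolve_right ht, hs⟩
    obtain ⟨h, hh, hi⟩ := exists_isom_map hA hB ![t, b] ![t, b'] (li b hn) (li b' hn') (by
      intro i j
      fin_cases i <;> fin_cases j <;>
        simp [alt_self hA, hb, hb', alt_swap hA b t, alt_swap hA b' t])
    exact ⟨⟨h, hh⟩, hi 0, hi 1⟩
  -- it suffices to treat centres off the line of `t`
  suffices key : ∀ b c, B t b = 0 → b ∉ Submodule.span F {t} → tI hA b c ∈ D by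
    have hgen := isom_stab hA hB ht (g := g) hg
    refine (Subgroup.closure_le _).2 ?_ hgen
    rintro _ ⟨b, hb, c, rfl⟩
    by_cases hbt : b ∈ Submodule.span F {t}
    swap
    · exact key b c hb hbt
    obtain ⟨s, rfl⟩ := Submodule.mem_span_singleton.1 hbt
    rw [SetLike.mem_coe, hsm]
    -- two vectors off the line
    obtain ⟨u, w, hu, hw, huw, nu, nw, nuw⟩ : ∃ u w, B t u = 0 ∧ B t w = 0 ∧ B u w = 0 ∧
        u ∉ Submodule.span F {t} ∧ w ∉ Submodule.span F {t} ∧ u + w ∉ Submodule.span F {t} := by
      obtain ⟨m, k, b, hb, hrad⟩ := exists_hyp_basis B hA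
      have hk : k = 0 := by
        by_contra hk
        exact b.ne_zero (Sum.inr ⟨0, Nat.pos_of_ne_zero hk⟩) (hB.1 _ (hrad ⟨0, Nat.pos_of_ne_zero hk⟩))
      subst hk
      have hm : Module.finrank F V = m + m := by rw [Module.finrank_eq_card_basis b]; simp
      obtain ⟨E, F', hb⟩ : ∃ E F' : Fin m → V, IsHypSystem B E F' := ⟨_, _, hb⟩
      have z0 : (⟨0, by omega⟩ : Fin m) ≠ ⟨1, by omega⟩ := by simp
      obtain ⟨h, hh, hi⟩ := exists_isom_map hA hB (fun _ : Unit => E ⟨0, by omega⟩) (fun _ => t)
        (LinearIndependent.of_subsingleton () ((hb.linearIndependent hA).ne_zero (Sum.inl _)))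
        (LinearIndependent.of_subsingleton () ht) (fun _ _ => by simp [alt_self hA])
      have h0 : h (E ⟨0, by omega⟩) = t := hi ()
      have off : ∀ i : Fin m, ∀ x : V, B x (F' i) = 1 → B (E ⟨0, by omega⟩) (F' i) = 0 →
          h x ∉ Submodule.span F {t} := by
        intro i x hx h1 hmem
        obtain ⟨r, hr⟩ := Submodule.mem_span_singleton.1 hmem
        rw [← h0, ← map_smul] at hr
        rw [← h.injective hr, map_smul, LinearMap.smul_apply, h1, smul_zero] at hx
        exact zero_ne_one hx
      refine ⟨h (E ⟨1, by omega⟩), h (E ⟨2, by omega⟩), ?_, ?_, ?_, ?_, ?_, ?_⟩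
      · rw [← h0, hh]; exact hb.2.1 _ _
      · rw [← h0, hh]; exact hb.2.1 _ _
      · rw [hh]; exact hb.2.1 _ _
      · exact off ⟨1, by omega⟩ _ (by simp [hb.1]) (by simp [hb.1])
      · exact off ⟨2, by omega⟩ _ (by simp [hb.1]) (by simp [hb.1])
      · rw [← map_add]
        exact off ⟨1, by omega⟩ _ (by simp [hb.1]) (by simp [hb.1])
    have off' : ∀ x, x ∉ Submodule.span F {t} → t + x ∉ Submodule.span F {t} := fun x hx h =>
      hx ((Submodule.add_mem_iff_right _ (Submodule.mem_span_singleton_self t)).1 h)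
    rw [sp_six hA hB h2 t u w hu hw huw]
    refine mul_mem (mul_mem (mul_mem (mul_mem (mul_mem ?_ ?_) ?_) ?_) ?_) ?_ <;> apply key
    · simp [alt_self hA, hu, hw]
    · rw [add_assoc]; exact off' _ nuw
    · simp [alt_self hA, hu]
    · exact off' _ nu
    · simp [alt_self hA, hw]
    · exact off' _ nw
    · simp [hu, hw]
    · exact nuw
    · exact hu
    · exact nu
    · exact hw
    · exact nw
  have : CharP F 2 := CharTwo.of_one_ne_zero_of_two_eq_zero one_ne_zero h2
  rcases eq_or_ne (Nat.card F) 2 with hq2 | hq2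
  · -- the field with two elements
    have hF2 : ∀ x : F, x = 0 ∨ x = 1 := by
      intro x
      by_contra hx
      push Not at hx
      have := Fintype.ofFinite F
      rw [Nat.card_eq_fintype_card] at hq2
      have := Finset.card_le_card (Finset.subset_univ ({0, 1, x} : Finset F))
      rw [Finset.card_univ, hq2, Finset.card_eq_three.2 ⟨0, 1, x, zero_ne_one, hx.1.symm,
        hx.2.symm, rfl⟩] at this
      omega
    obtain ⟨m, k, b, hb, hrad⟩ := exists_hyp_basis B hA
    have hk : k = 0 := by
      by_contra hk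
      exact b.ne_zero (Sum.inr ⟨0, Nat.pos_of_ne_zero hk⟩) (hB.1 _ (hrad ⟨0, Nat.pos_of_ne_zero hk⟩))
    subst hk
    have hm : Module.finrank F V = m + m := by rw [Module.finrank_eq_card_basis b]; simp
    have h8 : 8 ≤ Module.finrank F V := hq.resolve_left (not_not.2 hq2)
    obtain ⟨E, F', hE⟩ : ∃ E F' : Fin m → V, IsHypSystem B E F' := ⟨_, _, hb⟩
    obtain ⟨h, hh, hi⟩ := exists_isom_map hA hB (fun _ : Unit => E ⟨0, by omega⟩) (fun _ => t)
      (LinearIndependent.of_subsingleton () ((hE.linearIndependent hA).ne_zero (Sum.inl _)))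
      (LinearIndependent.of_subsingleton () ht) (fun _ _ => by simp [alt_self hA])
    set e := h (E ⟨1, by omega⟩) with he
    set u := h (E ⟨2, by omega⟩) with hu
    set y := h (E ⟨3, by omega⟩) with hy
    set z := h (F' ⟨3, by omega⟩) with hz
    have ht' : t = h (E ⟨0, by omega⟩) := (hi ()).symm
    have hEE : ∀ i j, B (E i) (E j) = 0 := hE.2.1
    have hFE : ∀ i j, B (F' i) (E j) = - if j = i then 1 else 0 := fun i j => by
      rw [alt_swap hA, hE.1]
    have ete : B t e = 0 := by rw [ht', he, hh, hEE]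
    have etu : B t u = 0 := by rw [ht', hu, hh, hEE]
    have ety : B t y = 0 := by rw [ht', hy, hh, hEE]
    have etz : B t z = 0 := by rw [ht', hz, hh, hE.1]; simp
    have eeu : B e u = 0 := by rw [he, hu, hh, hEE]
    have eey : B e y = 0 := by rw [he, hy, hh, hEE]
    have eez : B e z = 0 := by rw [he, hz, hh, hE.1]; simp
    have euy : B u y = 0 := by rw [hu, hy, hh, hEE]
    have euz : B u z = 0 := by rw [hu, hz, hh, hE.1]; simp
    have eyz : B y z = 1 := by rw [hy, hz, hh, hE.1]; simp
    have eue : B u e = 0 := by rw [alt_swap hA, eeu, neg_zero]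
    have eye : B y e = 0 := by rw [alt_swap hA, eey, neg_zero]
    have eze : B z e = 0 := by rw [alt_swap hA, eez, neg_zero]
    have eyu : B y u = 0 := by rw [alt_swap hA, euy, neg_zero]
    have ezu : B z u = 0 := by rw [alt_swap hA, euz, neg_zero]
    have k2 : ∀ v : V, v + v = 0 := fun v => by rw [← two_smul F v, h2, zero_smul]
    have ezy : B z y = 1 := by rw [alt_swap hA, eyz, CharTwo.neg_eq]
    -- a short root element is a commutator
    have hqm : ∀ p r, B t p = 0 → B t r = 0 → qL (tI hA) p r ∈ spFix B t := fun p r hp hr =>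
      mul_mem (mul_mem (htI _ _ (by simp [hp, hr])) (htI _ _ hr)) (htI _ _ hp)
    have hcom : qL (tI hA) e y * qL (tI hA) z u =
        qL (tI hA) e u * (qL (tI hA) z u * qL (tI hA) e y) := by
      refine Subtype.ext (LinearEquiv.ext fun x => ?_)
      simp only [qL, tI, Subgroup.coe_mul, SpCover.mul_app, tv_apply, map_add, map_smul,
        LinearMap.add_apply, LinearMap.smul_apply, smul_eq_mul, alt_self hA, eeu, eey, eez, euy, euz,
        eyz, eue, eye, eze, eyu, ezu, ezy, mul_zero, add_zero, zero_add, zero_smul, mul_one,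
        CharTwo.neg_eq, one_mul]
      match_scalars <;> ring_nf <;> simp [CharTwo.two_eq_zero, show (3 : F) = 1 by linear_combination h2,
        show (4 : F) = 0 by linear_combination 2 * h2]
    have hD1 : qL (tI hA) e u ∈ D := by
      have := Subgroup.commutator_mem_commutator (hqm e y ete ety) (hqm z u etz etu)
      rwa [commutatorElement_def, hcom, show ∀ a b c : Isom B, a * (b * c) * c⁻¹ * b⁻¹ = a from
        fun a b c => by group] at this
    have off : ∀ i : Fin m, ∀ x : V, B x (F' i) = 1 → B (E ⟨0, by omega⟩) (F' i) = 0 →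
        h x ∉ Submodule.span F {t} := by
      intro i x hx h1 hmem
      obtain ⟨r, hr⟩ := Submodule.mem_span_singleton.1 hmem
      rw [ht', ← map_smul] at hr
      rw [← h.injective hr, map_smul, LinearMap.smul_apply, h1, smul_zero] at hx
      exact zero_ne_one hx
    intro b c hb hbt
    rcases hF2 c with rfl | rfl
    · rw [show tI hA b 0 = 1 from Subtype.ext (tv_zero hA b)]; exact one_mem _
    -- all centres give the same class modulo `D`
    have same : ∀ p, B t p = 0 → p ∉ Submodule.span F {t} → (tI hA b 1)⁻¹ * tI hA p 1 ∈ D := by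
      intro p hp hpt
      obtain ⟨f, hf, hfb⟩ := move b p hb hp hbt hpt
      rw [← hfb, ← hconj]
      have := Subgroup.commutator_mem_commutator (inv_mem (htI b 1 hb)) hf
      rwa [commutatorElement_def, inv_inv, show (tI hA b 1)⁻¹ * f * tI hA b 1 * f⁻¹ =
        (tI hA b 1)⁻¹ * (f * tI hA b 1 * f⁻¹) by group] at this
    have hDn : ∀ d ∈ D, ∀ f ∈ spFix B t, f * d * f⁻¹ ∈ D := by
      intro d hd f hf
      have : D.map (MulAut.conj f).toMonoidHom ≤ D := by
        rw [hD, Subgroup.map_commutator]
        refine Subgroup.commutator_mono ?_ ?_ <;>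
        · rintro _ ⟨x, hx, rfl⟩; exact mul_mem (mul_mem hf hx) (inv_mem hf)
      exact this ⟨d, hd, rfl⟩
    set T := tI hA b 1 with hT
    have hTT : T * T = 1 := Subtype.ext (by
      show tv hA b 1 * tv hA b 1 = 1
      rw [tv_mul, CharTwo.add_self_eq_zero, tv_zero])
    have c1 := same (e + u) (by simp [ete, etu]) (by
      rw [he, hu, ← map_add]; exact off ⟨1, by omega⟩ _ (by simp [hE.1]) (by simp [hE.1]))
    have c2 := same u etu (by rw [hu]; exact off ⟨2, by omega⟩ _ (by simp [hE.1]) (by simp [hE.1]))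
    have c3 := same e ete (by rw [he]; exact off ⟨1, by omega⟩ _ (by simp [hE.1]) (by simp [hE.1]))
    have hTm := htI b 1 hb
    have hTinv : T⁻¹ = T := inv_eq_of_mul_eq_one_right hTT
    rw [qL, CharTwo.neg_eq] at hD1
    have k1 : T⁻¹ * (T⁻¹ * (T⁻¹ * tI hA (e + u) 1) * T * (T⁻¹ * tI hA u 1)) * T *
        (T⁻¹ * tI hA e 1) ∈ D := by
      refine mul_mem ?_ c3
      have i1 := hDn _ c1 _ (inv_mem hTm)
      rw [inv_inv] at i1
      have i2 := hDn _ (mul_mem i1 c2) _ (inv_mem hTm)
      rwa [inv_inv] at i2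
    have key := mul_mem hD1 (inv_mem k1)
    rw [show tI hA (e + u) 1 * tI hA u 1 * tI hA e 1 *
      (T⁻¹ * (T⁻¹ * (T⁻¹ * tI hA (e + u) 1) * T * (T⁻¹ * tI hA u 1)) * T *
        (T⁻¹ * tI hA e 1))⁻¹ = T ^ 3 by group] at key
    rwa [pow_three, hTT, mul_one] at key
  · -- a field with at least four elements
    intro b c hb hbt
    obtain ⟨μ, hμ0, hμ1⟩ : ∃ μ : F, μ ≠ 0 ∧ μ ≠ 1 := by
      by_contra hall
      push Not at hall
      have := Fintype.ofFinite F
      have hsub : (Finset.univ : Finset F) ⊆ {0, 1} := fun x _ => by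
        by_cases h : x = 0
        · simp [h]
        · simp [hall x h]
      have := (Finset.card_le_card hsub).trans Finset.card_le_two
      rw [Finset.card_univ, ← Nat.card_eq_fintype_card] at this
      have := Finite.one_lt_card (α := F)
      omega
    obtain ⟨p, hp, htp⟩ := partner b hbt
    have hpb : B p b = -1 := by rw [alt_swap hA, hp]
    have hsq : μ ^ 2 ≠ 1 := fun h => hμ1 (CharTwo.sq_inj.1 (h.trans (one_pow 2).symm))
    have li : ∀ r s : F, r ≠ 0 → s ≠ 0 → LinearIndependent F ![t, r • b, s • p] := by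
      intro r s hr hs
      rw [Fintype.linearIndependent_iff]
      intro f hf
      simp only [Fin.sum_univ_three, Matrix.cons_val_zero, Matrix.cons_val_one, Matrix.cons_val_two,
        Matrix.head_cons, Matrix.tail_cons] at hf
      have e1 := congrArg (fun x => B x p) hf
      have e2 := congrArg (fun x => B x b) hf
      simp [htp, hp, hpb, hb, alt_self hA, hr, hs] at e1 e2
      have h0 : f 0 • t = 0 := by simpa [e1, e2] using hf
      intro i
      fin_cases i
      exacts [(smul_eq_zero.1 h0).resolve_right ht, e1, e2]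
    obtain ⟨h, hh, hi⟩ := exists_isom_map hA hB ![t, (1:F) • b, (1:F) • p] ![t, μ • b, μ⁻¹ • p]
      (li 1 1 one_ne_zero one_ne_zero) (li μ μ⁻¹ hμ0 (inv_ne_zero hμ0)) (by
        intro i j
        fin_cases i <;> fin_cases j <;>
          simp [alt_self hA, hb, htp, hp, hpb, alt_swap hA b t, alt_swap hA p t, hμ0])
    have hfix : (⟨h, hh⟩ : Isom B) ∈ spFix B t := hi 0
    have hb' : h b = μ • b := by
      have := hi 1
      simpa using this
    have := Subgroup.commutator_mem_commutator hfix (htI b ((μ ^ 2 - 1)⁻¹ * c) hb)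
    rw [commutatorElement_def, hconj, show (⟨h, hh⟩ : Isom B).1 b = μ • b from hb', hsm,
      show (tI hA b ((μ ^ 2 - 1)⁻¹ * c))⁻¹ = tI hA b (-((μ ^ 2 - 1)⁻¹ * c)) from
        Subtype.ext (tv_inv hA b _)] at this
    rwa [show tI hA b (μ ^ 2 * ((μ ^ 2 - 1)⁻¹ * c)) * tI hA b (-((μ ^ 2 - 1)⁻¹ * c)) = tI hA b c
      from Subtype.ext (by
        show tv hA b _ * tv hA b _ = tv hA b c
        rw [tv_mul]
        congr 1
        field_simp [sub_ne_zero.2 hsq]
        ring)] at this

end Cfsg.Agent.H97.Omega
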