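/-
Characteristic two: the multiplier of `Ω(Q)` is bounded by that of the stabiliser of a non-singular
vector, a symplectic group.
-/
import Cfsg.Agent.H97.Omega.Sphere
import Cfsg.Agent.H97.Omega.SpStab
import Cfsg.Agent.H97.SpCover.Main
import Cfsg.Agent.Symplectic.AltStd

set_option autoImplicit false
set_option linter.unusedSectionVars false
set_option maxHeartbeats 1000000

namespace Cfsg.Agent.H97.Omega

open QuadraticMap Module
open Cfsg.Agent.Orthogonal
open Cfsg.Agent.Symplectic (Isom exists_isom_mulEquiv)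
open Cfsg.Agent.H97.SpCover (tI tI_gen)

universe u v

variable {F : Type u} {V : Type v} [Field F] [AddCommGroup V] [Module F V] [FiniteDimensional F V]
  [Finite F] {Q : QuadraticForm F V}

/-- Distinct orthogonal points of a sphere. -/
def OrthNe (Q : QuadraticForm F V) (c : F) (a b : Sph Q c) : Prop :=
  polar Q a.1 b.1 = 0 ∧ a.1 ≠ b.1

/-- The projection along a hyperbolic plane in characteristic two. -/
def proj (Q : QuadraticForm F V) (a a' : V) : V →ₗ[F] V :=
  LinearMap.id - (Q.polarBilin a').smulRight a - (Q.polarBilin a).smulRight a'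

theorem proj_apply (a a' y : V) :
    proj Q a a' y = y - polar Q a' y • a - polar Q a y • a' := by
  simp [proj]

variable {c : F} (hQ : Nondeg Q) (h2 : (2 : F) = 0) (hc : c ≠ 0) (h8 : 8 ≤ finrank F V)
include hQ h2 hc h8

theorem even_hn : Nat.card F ≠ 2 ∨ finrank F V ≠ 4 := Or.inr (by omega)

theorem polar_self_zero (x : V) : polar Q x x = 0 := by rw [polar_self', h2, zero_mul]

theorem sph_ne_zero (x : Sph Q c) : x.1 ≠ 0 := fun h =>
  hc (by rw [← x.2, h]; exact QuadraticMap.map_zero Q)

theorem li_pair {a d : Sph Q c} (h : OrthNe Q c a d) : LinearIndependent F ![a.1, d.1] := by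
  rw [LinearIndependent.pair_iff' (sph_ne_zero hQ h2 hc h8 a)]
  intro s hs
  have : CharP F 2 := CharTwo.of_one_ne_zero_of_two_eq_zero one_ne_zero h2
  have hd := d.2
  rw [← hs, qmap_smul, a.2] at hd
  have h1 : s = 1 := CharTwo.sq_inj.1 ((mul_left_eq_self₀.1 hd).resolve_right hc |>.trans
    (one_pow 2).symm)
  exact h.2 (by rw [← hs, h1, one_smul])

theorem mem_span_pair_of {a d e : V} (hde : d ∉ Submodule.span F {e}) (hd : d ∈ Submodule.span F {a, e}) :
    a ∈ Submodule.span F {d, e} := by
  obtain ⟨r, s, rfl⟩ := Submodule.mem_span_pair.1 hd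
  have hr : r ≠ 0 := by
    rintro rfl
    exact hde (Submodule.mem_span_singleton.2 ⟨s, by simp⟩)
  exact Submodule.mem_span_pair.2 ⟨r⁻¹, -(r⁻¹ * s), by
    rw [smul_add, smul_smul, smul_smul, inv_mul_cancel₀ hr, one_smul, neg_smul, add_neg_cancel_right]⟩

/-- The stabiliser of a non-singular vector is a symplectic group. -/
theorem exists_stab_equiv (a : Sph Q c) :
    ∃ (T : Submodule F V) (a' : V), finrank F T + 2 = finrank F V ∧ Nondeg (restr Q T) ∧
      polar Q a.1 a' = 1 ∧ T = perp Q (Submodule.span F {a.1, a'}) ∧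
      ∃ e : MulAction.stabilizer (commutator (O Q)) a ≃* Isom (restr Q T).polarBilin,
        ∀ g t, (((e g).1 t : T) : V) = proj Q a.1 a' ((((g.1 : commutator (O Q)) : O Q) : V ≃ₗ[F] V) t) := by
  classical
  have hgen := reflGroup_eq_top hQ (even_hn hQ h2 hc h8)
  have haa : polar Q a.1 a.1 = 0 := polar_self_zero hQ h2 hc h8 _
  obtain ⟨a', ha'⟩ := hQ.exists_polar_eq (sph_ne_zero hQ h2 hc h8 a) 1
  have ha'a : polar Q a' a.1 = 1 := (polar_comm _ _ _).trans ha'
  obtain ⟨hP, hPd, -⟩ := nondeg_span_two (Q := Q) (a := a.1) (b := a') (by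
    rw [ha', h2, zero_mul, zero_mul, one_pow, zero_sub]; exact neg_ne_zero.2 one_ne_zero)
  set T := perp Q (Submodule.span F {a.1, a'}) with hT
  have hTnd : Nondeg (restr Q T) := hQ.nondeg_perp hP
  refine ⟨T, a', by have := hQ.finrank_add_perp (Submodule.span F {a.1, a'}); rw [hT]; omega,
    hTnd, ha', rfl, ?_⟩
  set H := MulAction.stabilizer (commutator (O Q)) a with hH
  let op : H → V ≃ₗ[F] V := fun g => ((g.1 : commutator (O Q)) : O Q).1
  have hga : ∀ g : H, op g a.1 = a.1 := fun g => mem_stab.1 g.2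
  have opm : ∀ g h : H, ∀ x, op (g * h) x = op g (op h x) := fun g h x => rfl
  have hT1 : ∀ t : T, polar Q a.1 t = 0 := fun t => ((mem_perp_span_pair Q).1 t.2).1
  have hT2 : ∀ t : T, polar Q a' t = 0 := fun t => ((mem_perp_span_pair Q).1 t.2).2
  have hga' : ∀ (g : H) (t : T), polar Q a.1 (op g t) = 0 := fun g t => by
    conv_lhs => rw [← hga g]
    exact (O.polar_app _ _ _).trans (hT1 t)
  have pmem : ∀ y, proj Q a.1 a' y ∈ T := by
    intro y
    rw [hT, mem_perp_span_pair]
    simp only [proj_apply, polar_sub_right, polar_smul_right', haa, ha', ha'a,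
      polar_self_zero hQ h2 hc h8 a', mul_zero, mul_one, sub_zero, sub_self, and_self]
  have pT : ∀ t : T, proj Q a.1 a' t = (t : V) := fun t => by
    rw [proj_apply, hT1, hT2, zero_smul, zero_smul, sub_zero, sub_zero]
  have pg : ∀ (g : H) (t : T), proj Q a.1 a' (op g t) = op g t - polar Q a' (op g t) • a.1 :=
    fun g t => by rw [proj_apply, hga', zero_smul, sub_zero]
  have pa : proj Q a.1 a' a.1 = 0 := by
    rw [proj_apply, ha'a, haa, zero_smul, one_smul, sub_self, sub_zero]
  let f : H → T →ₗ[F] T := fun g =>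
    ((proj Q a.1 a').comp ((op g).toLinearMap.comp T.subtype)).codRestrict T fun t => pmem _
  have hf : ∀ g t, (f g t : V) = proj Q a.1 a' (op g t) := fun g t => rfl
  have fmul : ∀ g h, f (g * h) = (f g).comp (f h) := by
    intro g h
    refine LinearMap.ext fun t => Subtype.ext ?_
    rw [LinearMap.comp_apply, hf, hf, hf, pg h t, map_sub, map_smul, hga, map_sub, map_smul, pa,
      smul_zero, sub_zero, opm]
  have fone : f 1 = LinearMap.id := LinearMap.ext fun t => Subtype.ext (pT t)
  have pol : ∀ g t t', polar Q (f g t : V) (f g t') = polar Q (t : V) t' := by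
    intro g t t'
    rw [hf, hf, pg, pg, polar_sub_left, polar_sub_right, polar_sub_right, polar_smul_left',
      polar_smul_left', polar_smul_right', polar_smul_right', hga', haa, polar_comm (⇑Q) (op g t) a.1,
      hga']
    simp only [mul_zero, sub_zero]
    exact O.polar_app _ _ _
  let π : H →* Isom (restr Q T).polarBilin :=
    { toFun := fun g => ⟨LinearEquiv.ofLinearMap (f g) (f g⁻¹)
          (by rw [← fmul, mul_inv_cancel, fone]) (by rw [← fmul, inv_mul_cancel, fone]), fun t t' => by
            simp only [polarBilin_apply', polar_restr]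
            exact pol g t t'⟩
      map_one' := Subtype.ext (LinearEquiv.ext fun t => LinearMap.congr_fun fone t)
      map_mul' := fun g h => Subtype.ext (LinearEquiv.ext fun t => LinearMap.congr_fun (fmul g h) t) }
  have hπ : ∀ g t, (((π g).1 t : T) : V) = proj Q a.1 a' (op g t) := fun g t => rfl
  -- a transvection has a preimage
  have htv : ∀ hA : (restr Q T).polarBilin.IsAlt, ∀ t l, tI hA t l ∈ π.range := by
    intro hA t l
    by_cases hl : l = 0
    · rw [hl, show tI hA t 0 = 1 from Subtype.ext (Symplectic.tv_zero hA t)]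
      exact one_mem _
    obtain ⟨α, hα⟩ := isSquare_of_two_eq_zero h2 ((l⁻¹ - Q (t : V)) / c)
    set w := (t : V) + α • a.1 with hw
    have hwQ : Q w = l⁻¹ := by
      rw [hw, map_add_polar, qmap_smul, polar_smul_right', polar_comm, hT1, mul_zero, add_zero, a.2,
        pow_two, ← hα, div_mul_cancel₀ _ hc]
      ring
    have hw0 : Q w ≠ 0 := by rw [hwQ]; exact inv_ne_zero hl
    have ha0 : Q a.1 ≠ 0 := by rw [a.2]; exact hc
    have hmem : rO Q a.1 * rO Q w ∈ commutator (O Q) := by
      rw [commutator_eq_ker_dickson hQ hgen h2, MonoidHom.mem_ker, map_mul,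
        dickson_rO hQ hgen ha0, dickson_rO hQ hgen hw0]
      rfl
    have hwa : polar Q w a.1 = 0 := by
      rw [hw, polar_add_left, polar_smul_left', haa, polar_comm, hT1, mul_zero, add_zero]
    have hst : (⟨_, hmem⟩ : commutator (O Q)) ∈ H := by
      rw [hH, mem_stab]
      show ((rO Q a.1 * rO Q w : O Q) : V ≃ₗ[F] V) a.1 = a.1
      rw [Subgroup.coe_mul, Orthogonal.mul_app, rO_fix hwa, rO_fix haa]
    refine ⟨⟨_, hst⟩, Subtype.ext (LinearEquiv.ext fun y => Subtype.ext ?_)⟩
    rw [hπ]
    show proj Q a.1 a' (((rO Q a.1 * rO Q w : O Q) : V ≃ₗ[F] V) y) = _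
    have hwy : polar Q w (y : V) = polar Q (y : V) (t : V) := by
      rw [hw, polar_add_left, polar_smul_left', hT1, mul_zero, add_zero, polar_comm]
    have : CharP F 2 := CharTwo.of_one_ne_zero_of_two_eq_zero one_ne_zero h2
    rw [Subgroup.coe_mul, Orthogonal.mul_app, rO_app Q w, hwQ, inv_inv, hwy, rO_fix (by
      rw [polar_sub_right, polar_smul_right', hT1, polar_comm _ a.1 w, hwa, mul_zero, sub_zero]),
      map_sub, map_smul, pT, hw, map_add, map_smul, pa, smul_zero, add_zero, pT]
    rw [show ((tI hA t l).1 y : T) = y + (l * (restr Q T).polarBilin y t) • t from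
      Symplectic.tv_apply hA t l y]
    simp only [Submodule.coe_add, Submodule.coe_smul, polarBilin_apply', polar_restr]
    rw [sub_eq_add_neg, ← neg_smul, CharTwo.neg_eq]
  have hbij : Function.Bijective π := by
    constructor
    · rw [← MonoidHom.ker_eq_bot_iff, eq_bot_iff]
      intro g hg
      rw [Subgroup.mem_bot]
      have hfix : ∀ t : T, op g t = (t : V) := by
        intro t
        have h1 : proj Q a.1 a' (op g t) = t := by
          rw [← hπ, MonoidHom.mem_ker.1 hg]; rfl
        rw [pg, sub_eq_iff_eq_add] at h1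
        have hv : Q (op g t) = Q (t : V) := O.map_app _ _
        rw [h1, map_add_polar, qmap_smul, polar_smul_right', polar_comm _ (t : V) a.1, hT1, a.2,
          mul_zero, add_zero, add_eq_left, mul_eq_zero] at hv
        have h0 : polar Q a' (op g t) = 0 := pow_eq_zero_iff (two_ne_zero) |>.1 (hv.resolve_right hc)
        rwa [h0, zero_smul, add_zero] at h1
      have hmem : op g a' ∈ perp Q T := by
        intro t ht
        refine (congrArg (fun z => polar Q z (op g a')) (hfix ⟨t, ht⟩)).symm.trans ?_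
        exact (O.polar_app _ _ _).trans ((polar_comm _ _ _).trans (hT2 ⟨t, ht⟩))
      rw [hT, hQ.perp_perp, Submodule.mem_span_pair] at hmem
      obtain ⟨r, s, hrs⟩ := hmem
      have hs : s = 1 := by
        have h1 : polar Q a.1 (op g a') = 1 := by
          conv_lhs => rw [← hga g]
          exact (O.polar_app _ _ _).trans ha'
        rw [← hrs, polar_add_right, polar_smul_right', polar_smul_right', haa, ha', mul_zero,
          mul_one, zero_add] at h1
        exact h1
      rw [hs, one_smul] at hrs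
      have hr : r * (r * c + 1) = 0 := by
        have h1 : Q (op g a') = Q a' := O.map_app _ _
        rw [← hrs, map_add_polar, qmap_smul, polar_smul_left', ha', a.2, mul_one] at h1
        linear_combination h1
      have span : ∀ x : V, ∃ p : V, ∃ t : T, x = p + t ∧ p ∈ Submodule.span F {a.1, a'} := fun x => by
        obtain ⟨p, hp, t, ht, he⟩ := Submodule.mem_sup.1
          ((hQ.isCompl_perp hP).sup_eq_top.symm ▸ Submodule.mem_top : x ∈ Submodule.span F {a.1, a'} ⊔ T)
        exact ⟨p, ⟨t, ht⟩, he.symm, hp⟩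
      rcases mul_eq_zero.1 hr with hr | hr
      · refine Subtype.ext (Subtype.ext (O.ext_app fun x => ?_))
        show op g x = x
        obtain ⟨p, t, rfl, hp⟩ := span x
        obtain ⟨i, j, rfl⟩ := Submodule.mem_span_pair.1 hp
        rw [map_add, map_add, map_smul, map_smul, hga, hfix, ← hrs, hr, zero_smul, zero_add]
      · exfalso
        have ha0 : Q a.1 ≠ 0 := by rw [a.2]; exact hc
        have : CharP F 2 := CharTwo.of_one_ne_zero_of_two_eq_zero one_ne_zero h2
        have hr' : r = c⁻¹ := by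
          have : r * c = 1 := by rw [← CharTwo.neg_eq (1 : F)]; linear_combination hr
          rw [eq_inv_of_mul_eq_one_left this]
        have heq : ((g.1 : commutator (O Q)) : O Q) = rO Q a.1 := by
          refine O.ext_app fun x => ?_
          show op g x = _
          obtain ⟨p, t, rfl, hp⟩ := span x
          obtain ⟨i, j, rfl⟩ := Submodule.mem_span_pair.1 hp
          rw [map_add, map_add, map_smul, map_smul, hga, hfix, ← hrs, map_add, map_add, map_smul,
            map_smul, rO_fix (hT1 t), rO_fix haa, rO_app Q a.1 a', ha', mul_one, a.2, ← hr',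
            sub_eq_add_neg, ← neg_smul, CharTwo.neg_eq, add_comm (r • a.1)]
        have hm := (g.1 : commutator (O Q)).2
        rw [heq, commutator_eq_ker_dickson hQ hgen h2, MonoidHom.mem_ker, dickson_rO hQ hgen ha0] at hm
        exact absurd hm (by decide)
    · rw [← MonoidHom.range_eq_top, eq_top_iff]
      have hA : (restr Q T).polarBilin.IsAlt := fun x => by
        rw [polarBilin_apply', polar_self', h2, zero_mul]
      rw [← tI_gen hA hTnd.polarBilin, SpCover.tvGen, Subgroup.closure_le]
      rintro _ ⟨t, -, l, rfl⟩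
      exact htv hA t l
  exact ⟨MulEquiv.ofBijective π hbij, fun g t => hπ g t⟩

theorem isom_perfect_multiplier (hq : Nat.card F ≠ 2 ∨ 10 ≤ finrank F V) {T : Submodule F V}
    (hT : finrank F T + 2 = finrank F V) (hTnd : Nondeg (restr Q T)) :
    commutator (Isom (restr Q T).polarBilin) = ⊤ ∧ MultLE (Isom (restr Q T).polarBilin) 1 := by
  classical
  have := Fintype.ofFinite F
  have hA : (restr Q T).polarBilin.IsAlt := fun x => by
    rw [polarBilin_apply', polar_self', h2, zero_mul]
  obtain ⟨m, e, hm, -⟩ := Symplectic.exists_std_equiv hA hTnd.polarBilin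
  obtain ⟨φ⟩ := exists_isom_mulEquiv hA hTnd.polarBilin hm
  have := Finite.of_equiv _ φ.symm.toEquiv
  constructor
  · have hp := Symplectic.perfect (F := F) m (Or.inl (by omega))
    rw [← Cfsg.Agent.H74.Schur.map_commutator_of_surjective φ.symm.toMonoidHom φ.symm.surjective, hp,
      Subgroup.map_top_of_surjective _ φ.symm.surjective]
  · intro Γ _ _ σ hσ
    have hk : (φ.toMonoidHom.comp σ).ker = σ.ker := by
      ext x
      rw [MonoidHom.mem_ker, MonoidHom.mem_ker, MonoidHom.comp_apply]
      exact φ.map_eq_one_iff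
    have hst : Cfsg.IsStemExtension (φ.toMonoidHom.comp σ) :=
      ⟨φ.surjective.comp hσ.1, hk.symm ▸ hσ.2.1, hk.symm ▸ hσ.2.2⟩
    have h1 := Cfsg.Agent.H74.Schur.ker_eq_bot_of_trivial
      (SpCover.multiplier_sp (F := F) (m := m) (by omega) fun hc2 => by
        rw [← Nat.card_eq_fintype_card] at hc2
        have := hq.resolve_left (not_not.2 hc2)
        omega) hst
    rw [← hk, h1, Subgroup.card_bot]

theorem even_geometry (hq : Nat.card F ≠ 2 ∨ 10 ≤ finrank F V) :
    Geometry (commutator (O Q)) (Sph Q c) (OrthNe Q c) := by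
  have hne := sph_ne_zero hQ h2 hc h8
  refine ⟨fun a b h => ⟨(polar_comm _ _ _).trans h.1, h.2.symm⟩, fun g a b h => ⟨?_, ?_⟩, fun a b => ?_,
    fun a => ?_, fun a d h => ?_, fun a b e => ?_⟩
  · show polar Q _ _ = 0
    rw [sph_smul, sph_smul, O.polar_app]
    exact h.1
  · rw [sph_smul, sph_smul]
    exact fun he => h.2 ((((g : O Q) : V ≃ₗ[F] V)).injective he)
  · obtain ⟨g, hg⟩ := exists_om_family hQ (even_hn hQ h2 hc h8) (v := ![a.1]) (w := ![b.1])
      (LinearIndependent.of_subsingleton 0 (hne a)) (LinearIndependent.of_subsingleton 0 (hne b))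
      (by intro i; fin_cases i; simp [a.2, b.2]) (by intro i j h; fin_cases i; fin_cases j; simp at h)
      ⊥ bot_le (nondeg_restr_bot Q) (by rw [finrank_bot]; omega)
    exact ⟨g, Subtype.ext (hg 0)⟩
  · obtain ⟨T, a', hT, hTnd, -, -, e, -⟩ := exists_stab_equiv hQ h2 hc h8 a
    apply Subgroup.map_injective (f := (MonoidHom.id _)) Function.injective_id
    rw [Subgroup.map_id, Subgroup.map_id]
    have h1 := (isom_perfect_multiplier hQ h2 hc h8 hq hT hTnd).1
    have h2' := Cfsg.Agent.H74.Schur.map_commutator_of_surjective e.symm.toMonoidHom e.symm.surjective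
    rw [h1, Subgroup.map_top_of_surjective _ e.symm.surjective] at h2'
    rw [← Subgroup.map_subtype_commutator, ← h2', ← MonoidHom.range_eq_map, Subgroup.range_subtype]
  · obtain ⟨T, a', hT, hTnd, ha', hTe, e, he⟩ := exists_stab_equiv hQ h2 hc h8 a
    have hA : (restr Q T).polarBilin.IsAlt := fun x => by
      rw [polarBilin_apply', polar_self', h2, zero_mul]
    have pda : polar Q d.1 a.1 = 0 := (polar_comm _ _ _).trans h.1
    have hpm : proj Q a.1 a' d.1 ∈ T := by
      rw [hTe, mem_perp_span_pair]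
      simp only [proj_apply, polar_sub_right, polar_smul_right', polar_self_zero hQ h2 hc h8, ha',
        (polar_comm _ _ _).trans ha', mul_zero, mul_one, sub_zero, sub_self, and_self]
    set t : T := ⟨proj Q a.1 a' d.1, hpm⟩ with ht
    have hdt : d.1 = (t : V) + polar Q a' d.1 • a.1 := by
      rw [ht]; simp [proj_apply, show polar Q a.1 d.1 = 0 from h.1]
    have ht0 : t ≠ 0 := by
      intro h0
      rw [h0, Submodule.coe_zero, zero_add] at hdt
      have hl := li_pair hQ h2 hc h8 h
      rw [LinearIndependent.pair_iff' (hne a)] at hl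
      exact hl _ hdt.symm
    have htT : polar Q a.1 (t : V) = 0 ∧ polar Q a' (t : V) = 0 :=
      (mem_perp_span_pair Q).1 (hTe.le t.2)
    have hpre : (Omega.spFix (restr Q T).polarBilin t).comap e.toMonoidHom =
        (MulAction.stabilizer (commutator (O Q)) d).subgroupOf
          (MulAction.stabilizer (commutator (O Q)) a) := by
      ext g
      rw [Subgroup.mem_comap, mem_spFix, Subgroup.mem_subgroupOf, mem_stab]
      have hga : ((g.1 : O Q) : V ≃ₗ[F] V) a.1 = a.1 := mem_stab.1 g.2
      have hgta : polar Q a.1 (((g.1 : O Q) : V ≃ₗ[F] V) (t : V)) = 0 := by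
        conv_lhs => rw [← hga]
        rw [O.polar_app]
        exact htT.1
      have key : (((e g).1 t : T) : V) = ((g.1 : O Q) : V ≃ₗ[F] V) (t : V) -
          polar Q a' (((g.1 : O Q) : V ≃ₗ[F] V) (t : V)) • a.1 :=
        (he g t).trans (by rw [proj_apply, hgta, zero_smul, sub_zero])
      constructor
      · intro hgt
        rw [show (e g).1 t = t from hgt, eq_sub_iff_add_eq] at key
        set s := polar Q a' (((g.1 : O Q) : V ≃ₗ[F] V) (t : V)) with hs
        have hv := O.map_app (g.1 : O Q) (t : V)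
        rw [← key, map_add_polar, qmap_smul, polar_smul_right', polar_comm _ (t : V) a.1,
          htT.1, a.2, mul_zero, add_zero, add_eq_left,
          mul_eq_zero] at hv
        have h0 : s = 0 := pow_eq_zero_iff (two_ne_zero) |>.1 (hv.resolve_right hc)
        rw [h0, zero_smul, add_zero] at key
        rw [hdt, map_add, map_smul, hga, ← key]
      · intro hgd
        rw [hdt, map_add, map_smul, hga, add_left_inj] at hgd
        refine Subtype.ext ?_
        show (((e g).1 t : T) : V) = t
        rw [key, hgd, htT.2, zero_smul, sub_zero]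
    have hperf := spFix_perfect hA hTnd.polarBilin h2 (by omega)
      (hq.imp_right fun _ => by omega) ht0
    have hmap : (Omega.spFix (restr Q T).polarBilin t).map e.symm.toMonoidHom =
        (MulAction.stabilizer (commutator (O Q)) d).subgroupOf
          (MulAction.stabilizer (commutator (O Q)) a) :=
      (Subgroup.map_equiv_eq_comap_symm e.symm _).trans hpre
    have h3 := congrArg (Subgroup.map e.symm.toMonoidHom) hperf
    rw [Subgroup.map_commutator, hmap] at h3
    have h4 := congrArg (Subgroup.map (MulAction.stabilizer (commutator (O Q)) a).subtype) h3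
    rw [Subgroup.map_commutator, Subgroup.subgroupOf_map_subtype, inf_comm] at h4
    exact h4
  · obtain ⟨x, hx, hxc, hxS⟩ := exists_orth_value hQ ![a.1, b.1, e.1] ⊥ bot_le
      (nondeg_restr_bot Q) (by rw [finrank_bot]; omega) c
    have hd : ∀ i, (![a.1, b.1, e.1] : Fin 3 → V) i ≠ x := fun i hi =>
      hxS hc (hi ▸ Submodule.subset_span ⟨i, rfl⟩)
    exact ⟨⟨x, hxc⟩, ⟨hx 0, hd 0⟩, ⟨hx 1, hd 1⟩, ⟨hx 2, hd 2⟩⟩

variable {Γ : Type v} [Group Γ] {σ : Γ →* commutator (O Q)} (hσ : Function.Surjective σ)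
  (hinj : ∀ a : Sph Q c, ∀ x ∈ stabX σ a, σ x = 1 → x = 1)
  (hq : Nat.card F ≠ 2 ∨ 10 ≤ finrank F V)
include hσ hinj hq

/-- One step: orthogonal neighbours give the same move. -/
theorem sameMove_step_even {a b d e : Sph Q c} (hde : OrthNe Q c d e) (had : OrthNe Q c a d)
    (hae : OrthNe Q c a e) (hbd : OrthNe Q c b d) (hbe : OrthNe Q c b e)
    (na : e.1 ∉ Submodule.span F {a.1, d.1}) (nb : e.1 ∉ Submodule.span F {b.1, d.1}) :
    SameMove σ a b d e := by
  have T := even_geometry hQ h2 hc h8 hq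
  have hli : ∀ x : Sph Q c, OrthNe Q c x d → e.1 ∉ Submodule.span F {x.1, d.1} →
      LinearIndependent F ![x.1, d.1, e.1] := by
    intro x hxd hn
    rw [Fintype.linearIndependent_iff]
    intro f hf
    simp only [Fin.sum_univ_three, Matrix.cons_val_zero, Matrix.cons_val_one, Matrix.cons_val_two,
      Matrix.head_cons, Matrix.tail_cons] at hf
    have h3 : f 2 = 0 := by
      by_contra h3
      refine hn (Submodule.mem_span_pair.2 ⟨-((f 2)⁻¹ * f 0), -((f 2)⁻¹ * f 1), ?_⟩)
      have := congrArg (fun y => (f 2)⁻¹ • y) hf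
      simp only [smul_add, smul_smul, inv_mul_cancel₀ h3, one_smul, smul_zero] at this
      rw [eq_neg_of_add_eq_zero_right this]
      module
    rw [h3, zero_smul, add_zero] at hf
    obtain ⟨h1, h2'⟩ := LinearIndependent.pair_iff.1 (li_pair hQ h2 hc h8 hxd) _ _ hf
    intro i
    fin_cases i <;> assumption
  obtain ⟨g, hg⟩ := exists_om_family hQ (even_hn hQ h2 hc h8) (hli a had na) (hli b hbd nb)
    (by intro i; fin_cases i <;> simp [a.2, b.2])
    (by
      intro i j hij
      fin_cases i <;> fin_cases j <;> simp at hij ⊢ <;>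
        simp [had.1, hae.1, hbd.1, hbe.1, polar_comm (⇑Q) d.1 a.1, polar_comm (⇑Q) e.1 a.1,
          polar_comm (⇑Q) d.1 b.1, polar_comm (⇑Q) e.1 b.1])
    ⊥ bot_le (nondeg_restr_bot Q) (by rw [finrank_bot]; omega)
  obtain ⟨x, hx, hxg⟩ := stabX_onto hσ (T.stab_perfect d) (show g • d = d from Subtype.ext (hg 1))
  obtain ⟨y, hy, hyg⟩ := stabX_onto hσ (T.stab_perfect e) (show g • e = e from Subtype.ext (hg 2))
  have ga : g • a = b := Subtype.ext (hg 0)
  refine ⟨x, hx, y, hy, by rw [hxg, ga], by rw [hyg, ga], ?_⟩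
  rw [stabX_agree hσ hinj (T.pair_perfect d e hde) hx hy (hxg.trans hyg.symm), inv_mul_cancel]
  exact one_mem _

/-- All neighbours give the same move. -/
theorem sameMove_all_even {a b d d' : Sph Q c} (had : OrthNe Q c a d) (hbd : OrthNe Q c b d)
    (had' : OrthNe Q c a d') (hbd' : OrthNe Q c b d') : SameMove σ a b d d' := by
  classical
  have T := even_geometry hQ h2 hc h8 hq
  set S := Submodule.span F (Set.range ![a.1, b.1, d.1, d'.1]) with hS
  have hsub : ∀ i, (![a.1, b.1, d.1, d'.1] : Fin 4 → V) i ∈ S := fun i =>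
    Submodule.subset_span ⟨i, rfl⟩
  obtain ⟨x, hx, hxc, k1, k2, k3, k4⟩ : ∃ x, (∀ i, polar Q (![a.1, b.1, d.1, d'.1] i) x = 0) ∧
      Q x = c ∧ x ∉ Submodule.span F {a.1, d.1} ∧ x ∉ Submodule.span F {b.1, d.1} ∧
      x ∉ Submodule.span F {a.1, d'.1} ∧ x ∉ Submodule.span F {b.1, d'.1} := by
    have out : ∀ P : Submodule F V, P ≤ S → Nondeg (restr Q P) →
        2 * finrank F S + 2 ≤ finrank F V + finrank F P → ∃ x,
        (∀ i, polar Q (![a.1, b.1, d.1, d'.1] i) x = 0) ∧
        Q x = c ∧ x ∉ Submodule.span F {a.1, d.1} ∧ x ∉ Submodule.span F {b.1, d.1} ∧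
        x ∉ Submodule.span F {a.1, d'.1} ∧ x ∉ Submodule.span F {b.1, d'.1} := by
      intro P hP hPn hdim
      obtain ⟨x, hx, hxc, hxS⟩ := perp_value hQ S P hP hPn hdim c
      have hle : ∀ i j, Submodule.span F {(![a.1, b.1, d.1, d'.1] : Fin 4 → V) i,
          (![a.1, b.1, d.1, d'.1] : Fin 4 → V) j} ≤ S := fun i j => by
        rw [Submodule.span_le]
        rintro y (rfl | rfl) <;> exact hsub _
      exact ⟨x, fun i => hx _ (hsub i), hxc, fun h => hxS hc (hle 0 2 h), fun h => hxS hc (hle 1 2 h),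
        fun h => hxS hc (hle 0 3 h), fun h => hxS hc (hle 1 3 h)⟩
    have hS4 : finrank F S ≤ 4 := finrank_span_le _
    by_cases h3 : finrank F S ≤ 3
    · exact out ⊥ bot_le (nondeg_restr_bot Q) (by rw [finrank_bot]; omega)
    by_cases h10 : 10 ≤ finrank F V
    · exact out ⊥ bot_le (nondeg_restr_bot Q) (by rw [finrank_bot]; omega)
    have pl : ∀ i j, polar Q ((![a.1, b.1, d.1, d'.1] : Fin 4 → V) i)
        ((![a.1, b.1, d.1, d'.1] : Fin 4 → V) j) ≠ 0 → ∃ x,
        (∀ i, polar Q (![a.1, b.1, d.1, d'.1] i) x = 0) ∧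
        Q x = c ∧ x ∉ Submodule.span F {a.1, d.1} ∧ x ∉ Submodule.span F {b.1, d.1} ∧
        x ∉ Submodule.span F {a.1, d'.1} ∧ x ∉ Submodule.span F {b.1, d'.1} := by
      intro i j hij
      obtain ⟨hn, hf, -⟩ := nondeg_span_two (Q := Q) (a := (![a.1, b.1, d.1, d'.1] : Fin 4 → V) i)
        (b := (![a.1, b.1, d.1, d'.1] : Fin 4 → V) j) (by
          rw [h2, zero_mul, zero_mul, zero_sub]; exact neg_ne_zero.2 (pow_ne_zero 2 hij))
      refine out _ ?_ hn (by omega)
      rw [Submodule.span_le]
      rintro y (rfl | rfl) <;> exact hsub _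
    by_cases hab : polar Q a.1 b.1 = 0
    swap
    · exact pl 0 1 hab
    by_cases hdd : polar Q d.1 d'.1 = 0
    swap
    · exact pl 2 3 hdd
    have hli : LinearIndependent F ![a.1, b.1, d.1, d'.1] := by
      refine linearIndependent_iff_card_eq_finrank_span.2 ?_
      rw [Fintype.card_fin]
      show 4 = finrank F S
      omega
    have hn : ∀ (f : Fin 4 → F) (k : Fin 4), f k ≠ 0 →
        f 0 • a.1 + f 1 • b.1 + f 2 • d.1 + f 3 • d'.1 ≠ 0 := fun f k hk h =>
      hk (Fintype.linearIndependent_iff.1 hli f (by simpa [Fin.sum_univ_four] using h) k)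
    refine ⟨a.1 + b.1 + d.1, ?_, ?_, ?_, ?_, ?_, ?_⟩
    · intro i
      have z := polar_self_zero hQ h2 hc h8
      fin_cases i <;> simp [polar_add_right, z, had.1, hbd.1, had'.1, hbd'.1, hab, hdd,
        polar_comm (⇑Q) b.1 a.1, polar_comm (⇑Q) d.1 a.1, polar_comm (⇑Q) d.1 b.1,
        polar_comm (⇑Q) d'.1 a.1, polar_comm (⇑Q) d'.1 b.1, polar_comm (⇑Q) d'.1 d.1]
    · rw [map_add_polar, map_add_polar, polar_add_left, hab, had.1, hbd.1, a.2, b.2, d.2]
      linear_combination c * h2
    all_goals
      intro h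
      obtain ⟨r, s, hrs⟩ := Submodule.mem_span_pair.1 h
      rw [← sub_eq_zero] at hrs
    · exact hn ![r - 1, -1, s - 1, 0] 1 (by simp) (by rw [← hrs]; simp; module)
    · exact hn ![-1, r - 1, s - 1, 0] 0 (by simp) (by rw [← hrs]; simp; module)
    · exact hn ![r - 1, -1, -1, s] 1 (by simp) (by rw [← hrs]; simp; module)
    · exact hn ![-1, r - 1, -1, s] 0 (by simp) (by rw [← hrs]; simp; module)
  let e : Sph Q c := ⟨x, hxc⟩
  have hne : ∀ y z : V, x ∉ Submodule.span F {y, z} → y ≠ x ∧ z ≠ x := fun y z hn =>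
    ⟨fun h => hn (h ▸ Submodule.subset_span (by simp)), fun h => hn (h ▸ Submodule.subset_span (by simp))⟩
  have ea : OrthNe Q c a e := ⟨hx 0, (hne _ _ k1).1⟩
  have eb : OrthNe Q c b e := ⟨hx 1, (hne _ _ k2).1⟩
  have ed : OrthNe Q c d e := ⟨hx 2, (hne _ _ k1).2⟩
  have ed' : OrthNe Q c d' e := ⟨hx 3, (hne _ _ k3).2⟩
  exact (sameMove_step_even hQ h2 hc h8 hσ hinj hq ed had ea hbd eb k1 k2).trans hσ hinj
    (T.stab_perfect a) (T.pair_perfect a e ea)
    (sameMove_step_even hQ h2 hc h8 hσ hinj hq ed' had' ea hbd' eb k3 k4).symm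

omit hσ hinj

/-- In characteristic two `Ω(Q)` has trivial multiplier. -/
theorem multLE_even (a : V) (ha : Q a = c) : MultLE (commutator (O Q)) 1 := by
  have T := even_geometry hQ h2 hc h8 hq
  obtain ⟨W, a', hW, hWnd, -, -, e, -⟩ := exists_stab_equiv hQ h2 hc h8 (⟨a, ha⟩ : Sph Q c)
  exact T.multLE ⟨a, ha⟩ (MultLE.congr e.symm (isom_perfect_multiplier hQ h2 hc h8 hq hW hWnd).2)
    fun τ hτ hinj a b d d' h1 h2' h3 h4 => sameMove_all_even hQ h2 hc h8 hτ.1 hinj hq h1 h2' h3 h4

end Cfsg.Agent.H97.Omega
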