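/-
The multiplier of the orthogonal groups of characteristic two, and bridging lemmas for `Cfsg.POmega`.
-/
import Cfsg.Agent.H97.Omega.EvenStep
import Cfsg.Agent.Orthogonal.POmega

set_option autoImplicit false
set_option linter.unusedSectionVars false

namespace Cfsg.Agent.H97.Omega

open QuadraticMap Module
open Cfsg.Agent.Orthogonal

universe u w w'

/-- The multiplier may be replaced by an isomorphic group. -/
theorem hasSchurMultiplier_of_equiv {G : Type u} [Group G] {A : Type w} {B : Type w'} [CommGroup A]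
    [CommGroup B] (h : Cfsg.HasSchurMultiplier G A) (e : A ≃* B) : Cfsg.HasSchurMultiplier G B := by
  obtain ⟨⟨Γ, hΓ, hΓf, σ, hσ, ⟨i⟩⟩, h'⟩ := h
  refine ⟨⟨Γ, hΓ, hΓf, σ, hσ, ⟨i.trans e⟩⟩, fun Δ _ _ τ hτ => ?_⟩
  obtain ⟨f, hf⟩ := h' Δ τ hτ
  exact ⟨f.comp e.symm.toMonoidHom, hf.comp e.symm.surjective⟩

variable {F : Type u} [Field F] [Finite F] {ι : Type} [Fintype ι] [DecidableEq ι]
  {Q : QuadraticForm F (ι → F)}

/-- Multiplier one for `Cfsg.POmega` from the bound for `Ω` when the centre is trivial. -/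
theorem hasCyclic_one_of_center (hone : Nat.card (Subgroup.center (Cfsg.Omega F (⇑Q))) = 1)
    (h : MultLE (commutator (O Q)) 1) : Cfsg.HasCyclicSchurMultiplier (Cfsg.POmega F (⇑Q)) 1 := by
  have hb : Subgroup.center (Cfsg.Omega F (⇑Q)) = ⊥ := Subgroup.card_eq_one.1 hone
  let e : Cfsg.POmega F (⇑Q) ≃* commutator (O Q) :=
    ((QuotientGroup.quotientMulEquivOfEq hb).trans QuotientGroup.quotientBot).trans (omegaEquiv Q)
  have h' : MultLE (Cfsg.POmega F (⇑Q)) 1 := MultLE.congr e.symm h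
  refine Cfsg.Agent.H74.Schur.hasCyclicSchurMultiplier_one fun Δ _ _ σ hσ => ?_
  exact Subgroup.card_eq_one.1 (le_antisymm (h' Δ σ hσ) Nat.card_pos)

/-- The multiplier in characteristic two. -/
theorem multiplier_pomega_even (hQ : Nondeg Q) (h2 : (2 : F) = 0) (h8 : 8 ≤ finrank F (ι → F))
    (hq : Nat.card F ≠ 2 ∨ 10 ≤ finrank F (ι → F)) :
    Cfsg.HasCyclicSchurMultiplier (Cfsg.POmega F (⇑Q)) 1 := by
  obtain ⟨a, ha⟩ := hQ.exists_value (show 2 ≤ finrank F (ι → F) by omega) 1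
  have : CharP F 2 := CharTwo.of_one_ne_zero_of_two_eq_zero one_ne_zero h2
  refine hasCyclic_one_of_center (card_center_omega_eq_one hQ (by omega) fun _ _ _ => ?_)
    (multLE_even hQ h2 one_ne_zero h8 hq a ha)
  ext i j
  rw [Matrix.neg_apply, CharTwo.neg_eq]

end Cfsg.Agent.H97.Omega
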