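/-
The spin cover of `Ω(Q)` in odd characteristic, built inside the units of the Clifford algebra.
-/
import Cfsg.Agent.Orthogonal.Spinor
import Cfsg.Agent.Orthogonal.Eichler
import Cfsg.Agent.H74.SchurPerfect
import Mathlib.LinearAlgebra.CliffordAlgebra.Contraction
import Mathlib.GroupTheory.Schreier

set_option autoImplicit false
set_option linter.unusedSectionVars false
set_option maxHeartbeats 1000000

namespace Cfsg.Agent.H97.Omega

open QuadraticMap Module
open Cfsg.Agent.Orthogonal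
open CliffordAlgebra (ι ι_sq_scalar ι_mul_ι_add_swap)

universe u v

variable {F : Type u} {V : Type v} [Field F] [AddCommGroup V] [Module F V] {Q : QuadraticForm F V}

theorem cliff_nontrivial (h2 : (2 : F) ≠ 0) : Nontrivial (CliffordAlgebra Q) := by
  have := invertibleOfNonzero h2
  infer_instance

theorem cliff_ι_injective (h2 : (2 : F) ≠ 0) : Function.Injective (ι Q) := by
  have := invertibleOfNonzero h2
  intro x y h
  have h' := congrArg (CliffordAlgebra.equivExterior Q) h
  simp only [CliffordAlgebra.equivExterior, CliffordAlgebra.changeFormEquiv_apply,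
    CliffordAlgebra.changeForm_ι] at h'
  exact (ExteriorAlgebra.ι_inj F x y).1 h'

theorem cliff_neg_one_ne (h2 : (2 : F) ≠ 0) : (-1 : CliffordAlgebra Q) ≠ 1 := by
  have := cliff_nontrivial (Q := Q) h2
  intro h
  have : algebraMap F (CliffordAlgebra Q) (-1) = algebraMap F (CliffordAlgebra Q) 1 := by
    rw [map_neg, map_one]; exact h
  exact h2 (by linear_combination -(RingHom.injective _ this : (-1 : F) = 1))

theorem ι_swap {a b : V} (h : polar Q a b = 0) : ι Q a * ι Q b = -(ι Q b * ι Q a) := by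
  rw [eq_neg_iff_add_eq_zero, ι_mul_ι_add_swap, h, map_zero]

theorem ι_sq_one {a : V} (h : Q a = 1) : ι Q a * ι Q a = 1 := by rw [ι_sq_scalar, h, map_one]

theorem ι_refl {w : V} (hw : Q w ≠ 0) (x : V) :
    ι Q w * ι Q x = -(ι Q ((rO Q w : V ≃ₗ[F] V) x) * ι Q w) := by
  rw [rO_app, map_sub, map_smul, sub_mul, smul_mul_assoc, ι_sq_scalar, Algebra.smul_def,
    ← (algebraMap F (CliffordAlgebra Q)).map_mul, mul_comm _ (Q w), mul_inv_cancel_left₀ hw,
    ← ι_mul_ι_add_swap]
  abel

theorem ι_pair {v w : V} (hv : Q v ≠ 0) (hw : Q w ≠ 0) (x : V) :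
    ι Q v * ι Q w * ι Q x = ι Q ((((rO Q v * rO Q w : O Q)) : V ≃ₗ[F] V) x) * (ι Q v * ι Q w) := by
  rw [mul_assoc, ι_refl hw, mul_neg, ← mul_assoc, ι_refl hv, neg_mul, neg_neg, mul_assoc]
  rfl

/-- Units which are products of two non-singular vectors. -/
def spinPairs (Q : QuadraticForm F V) : Set (CliffordAlgebra Q)ˣ :=
  {u | ∃ v w, Q v ≠ 0 ∧ Q w ≠ 0 ∧ (u : CliffordAlgebra Q) = ι Q v * ι Q w}

/-- The even Clifford group generated by pairs of vectors. -/
def pairGroup (Q : QuadraticForm F V) : Subgroup (CliffordAlgebra Q)ˣ :=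
  Subgroup.closure (spinPairs Q)

theorem pairGroup_acts {u : (CliffordAlgebra Q)ˣ} (hu : u ∈ pairGroup Q) :
    ∃ g : O Q, ∀ x, (u : CliffordAlgebra Q) * ι Q x = ι Q ((g : V ≃ₗ[F] V) x) * u := by
  induction hu using Subgroup.closure_induction with
  | mem u hu =>
    obtain ⟨v, w, hv, hw, he⟩ := hu
    exact ⟨rO Q v * rO Q w, fun x => by rw [he]; exact ι_pair hv hw x⟩
  | one => exact ⟨1, fun x => by simp⟩
  | mul u u' _ _ h h' =>
    obtain ⟨g, hg⟩ := h
    obtain ⟨g', hg'⟩ := h'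
    refine ⟨g * g', fun x => ?_⟩
    rw [Units.val_mul, mul_assoc, hg', ← mul_assoc, hg, mul_assoc]
    rfl
  | inv u _ h =>
    obtain ⟨g, hg⟩ := h
    refine ⟨g⁻¹, fun x => ?_⟩
    have := hg (((g⁻¹ : O Q) : V ≃ₗ[F] V) x)
    rw [← Orthogonal.mul_app, ← Subgroup.coe_mul, mul_inv_cancel, Subgroup.coe_one, one_app] at this
    apply_fun (fun t => ((u⁻¹ : (CliffordAlgebra Q)ˣ) : CliffordAlgebra Q) * t *
      ((u⁻¹ : (CliffordAlgebra Q)ˣ) : CliffordAlgebra Q)) at this
    simpa [mul_assoc] using this.symm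

variable (h2 : (2 : F) ≠ 0)
include h2

theorem acts_unique {u : (CliffordAlgebra Q)ˣ} {g g' : O Q}
    (h : ∀ x, (u : CliffordAlgebra Q) * ι Q x = ι Q ((g : V ≃ₗ[F] V) x) * u)
    (h' : ∀ x, (u : CliffordAlgebra Q) * ι Q x = ι Q ((g' : V ≃ₗ[F] V) x) * u) : g = g' :=
  O.ext_app fun x => cliff_ι_injective h2 (u.isUnit.mul_right_cancel ((h x).symm.trans (h' x)))

/-- The vector representation. -/
noncomputable def pairRep : pairGroup Q →* O Q :=
  MonoidHom.mk' (fun u => (pairGroup_acts u.2).choose) fun u u' => by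
    refine acts_unique h2 (pairGroup_acts (u * u').2).choose_spec fun x => ?_
    have h := (pairGroup_acts u.2).choose_spec
    have h' := (pairGroup_acts u'.2).choose_spec
    rw [Subgroup.coe_mul, Units.val_mul, mul_assoc, h', ← mul_assoc, h, mul_assoc]
    rfl

theorem pairRep_spec (u : pairGroup Q) (x : V) :
    ((u : (CliffordAlgebra Q)ˣ) : CliffordAlgebra Q) * ι Q x =
      ι Q ((pairRep h2 u : V ≃ₗ[F] V) x) * ((u : (CliffordAlgebra Q)ˣ) : CliffordAlgebra Q) :=
  (pairGroup_acts u.2).choose_spec x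

theorem pairRep_eq {u : pairGroup Q} {g : O Q}
    (h : ∀ x, ((u : (CliffordAlgebra Q)ˣ) : CliffordAlgebra Q) * ι Q x =
      ι Q ((g : V ≃ₗ[F] V) x) * ((u : (CliffordAlgebra Q)ˣ) : CliffordAlgebra Q)) :
    pairRep h2 u = g :=
  acts_unique h2 (pairRep_spec h2 u) h

theorem pairRep_ker : (pairRep (Q := Q) h2).ker ≤ Subgroup.center (pairGroup Q) := by
  intro u hu
  have hv : ∀ x, ((u : (CliffordAlgebra Q)ˣ) : CliffordAlgebra Q) * ι Q x =
      ι Q x * ((u : (CliffordAlgebra Q)ˣ) : CliffordAlgebra Q) := fun x => by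
    rw [pairRep_spec h2, MonoidHom.mem_ker.1 hu]; rfl
  have hle : pairGroup Q ≤ Subgroup.centralizer {(u : (CliffordAlgebra Q)ˣ)} := by
    refine (Subgroup.closure_le _).2 ?_
    rintro p ⟨v, w, -, -, he⟩
    rw [SetLike.mem_coe, Subgroup.mem_centralizer_singleton_iff]
    refine Units.ext ?_
    rw [Units.val_mul, Units.val_mul, he, mul_assoc, ← hv w, ← mul_assoc, ← hv v, mul_assoc]
  rw [Subgroup.mem_center_iff]
  intro p
  exact Subtype.ext (Subgroup.mem_centralizer_singleton_iff.1 (hle p.2))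

theorem exists_pair {v w : V} (hv : Q v ≠ 0) (hw : Q w ≠ 0) :
    ∃ u : pairGroup Q, ((u : (CliffordAlgebra Q)ˣ) : CliffordAlgebra Q) = ι Q v * ι Q w ∧
      pairRep h2 u = rO Q v * rO Q w := by
  have hu : IsUnit (ι Q v * ι Q w) :=
    (CliffordAlgebra.isUnit_ι_of_isUnit _ (Ne.isUnit hv)).mul
      (CliffordAlgebra.isUnit_ι_of_isUnit _ (Ne.isUnit hw))
  refine ⟨⟨hu.unit, Subgroup.subset_closure ⟨v, w, hv, hw, hu.unit_spec⟩⟩, hu.unit_spec,
    pairRep_eq h2 fun x => ?_⟩
  simp only [hu.unit_spec]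
  exact ι_pair hv hw x

theorem pair_mem_range : ∀ (l : List V), (∀ v ∈ l, Q v ≠ 0) → Even l.length →
    (l.map (rO Q)).prod ∈ (pairRep (Q := Q) h2).range
  | [], _, _ => by simp
  | [_], _, h => by simp at h
  | v :: w :: t, hl, h => by
    obtain ⟨u, -, hu⟩ := exists_pair h2 (hl v (by simp)) (hl w (by simp))
    rw [List.map_cons, List.prod_cons, List.map_cons, List.prod_cons, ← mul_assoc, ← hu]
    exact mul_mem ⟨u, rfl⟩ (pair_mem_range t (fun x hx => hl x (by simp [hx]))
      (by simpa [Nat.even_add_one] using h))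

variable [FiniteDimensional F V] [Finite F]

/-- The spin cover: a perfect central extension with a central involution in the kernel, in which
the lift of minus the identity has a known square. -/
theorem exists_spin_cover (hQ : Nondeg Q) (h5 : 5 ≤ finrank F V) {e₁ e₂ e₃ : V} (q1 : Q e₁ = 1)
    (q2 : Q e₂ = 1) (q3 : Q e₃ = 1) (p12 : polar Q e₁ e₂ = 0) (p13 : polar Q e₁ e₃ = 0)
    (p23 : polar Q e₂ e₃ = 0) :
    ∃ (E : Type (max u v)) (_ : Group E) (_ : Finite E) (π : E →* commutator (O Q)) (ε : E),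
      Group.IsPerfect E ∧ Function.Surjective π ∧ π.ker ≤ Subgroup.center E ∧ π ε = 1 ∧ ε ≠ 1 ∧
      ∀ (l : ℕ) (a b : Fin l → V), 3 ≤ l → finrank F V = 2 * l → (∀ i, Q (a i) = 1) →
        (∀ i, Q (b i) = 1) → (∀ i j, polar Q (a i) (b j) = 0) →
        (∀ i j, i ≠ j → polar Q (a i) (a j) = 0) → (∀ i j, i ≠ j → polar Q (b i) (b j) = 0) →
        ∃ y : E, (∀ x, ((π y : O Q) : V ≃ₗ[F] V) x = -x) ∧ y * y = ε ^ l := by
  classical
  let ρ := pairRep (Q := Q) h2
  let Γ : Subgroup (pairGroup Q) := (commutator (O Q)).comap ρ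
  let σ : Γ →* commutator (O Q) := (ρ.comp Γ.subtype).codRestrict _ fun u => u.2
  have hσ : Function.Surjective σ := by
    intro g
    obtain ⟨l, hl, hg⟩ := exists_refl_list hQ h2 (g : O Q)
    have hd := ((mem_commutator_iff hQ h2 _).1 g.2).1
    rw [← hg, detSign_list hQ h2 hl] at hd
    have hev : Even l.length := by
      by_contra ho
      rw [(Nat.not_even_iff_odd.1 ho).neg_one_pow] at hd
      exact absurd hd (by decide)
    obtain ⟨u, hu⟩ := pair_mem_range h2 l hl hev
    rw [hg] at hu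
    exact ⟨⟨u, show ρ u ∈ commutator (O Q) from hu ▸ g.2⟩, Subtype.ext hu⟩
  have hσc : σ.ker ≤ Subgroup.center Γ := by
    intro u hu
    rw [Subgroup.mem_center_iff]
    intro p
    exact Subtype.ext (Subgroup.mem_center_iff.1
      (pairRep_ker h2 (show (u : pairGroup Q) ∈ ρ.ker from congrArg Subtype.val hu)) p)
  have hperfO : Group.IsPerfect (commutator (O Q)) :=
    Subgroup.isPerfect_iff.2 (commutator_commutator hQ h5)
  obtain ⟨hmap, hperf⟩ := Cfsg.Agent.H74.Schur.commutator_perfect hσ hσc hperfO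
  let π : commutator Γ →* commutator (O Q) := σ.comp (commutator Γ).subtype
  have hfinO : Finite (commutator (O Q)) := by
    have : Finite V := Module.finite_of_finite F
    have : Finite (O Q) := Finite.of_injective (fun g : O Q => ((g : V ≃ₗ[F] V) : V → V))
      fun g g' h => O.ext_app fun x => congrFun h x
    infer_instance
  have hfin : Finite (commutatorSet Γ) := by
    let s := Function.surjInv hσ
    have hs : ∀ g, σ (s g) = g := Function.surjInv_eq hσ
    refine (Set.Finite.subset (Set.finite_range fun p : commutator (O Q) × commutator (O Q) =>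
      s p.1 * s p.2 * (s p.1)⁻¹ * (s p.2)⁻¹) ?_).to_subtype
    rintro _ ⟨p, p', rfl⟩
    refine ⟨(σ p, σ p'), ?_⟩
    have hz : ∀ p, (s (σ p))⁻¹ * p ∈ Subgroup.center Γ := fun p => hσc (by
      rw [MonoidHom.mem_ker, map_mul, map_inv, hs, inv_mul_cancel])
    conv_rhs => rw [commutatorElement_def, ← mul_inv_cancel_left (s (σ p)) p,
      ← mul_inv_cancel_left (s (σ p')) p',
      Cfsg.Agent.H74.Schur.commutatorElement_mul_central (hz p) (hz p')]
  -- lifts of products of two reflections with norms of square product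
  have lift : ∀ {v w : V}, Q v ≠ 0 → Q w ≠ 0 → IsSquare (Q v * Q w) → ∃ u : Γ,
      (((u : pairGroup Q) : (CliffordAlgebra Q)ˣ) : CliffordAlgebra Q) = ι Q v * ι Q w ∧
      (σ u : O Q) = rO Q v * rO Q w := by
    intro v w hv hw hsq
    obtain ⟨u, hu, hρ⟩ := exists_pair h2 hv hw
    have hm : ρ u ∈ commutator (O Q) := by
      rw [show ρ u = _ from hρ, mem_commutator_iff hQ h2, map_mul, map_mul, detSign_rO hQ h2 hv,
        detSign_rO hQ h2 hw, spinor_rO hQ h2 hv, spinor_rO hQ h2 hw, ← sqSign_mul h2 hv hw,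
        sqSign_of_isSquare hsq]
      exact ⟨by decide, rfl⟩
    exact ⟨⟨u, hm⟩, hu, hρ⟩
  have h1 : ∀ {x : V}, Q x = 1 → Q x ≠ 0 := fun h => by rw [h]; exact one_ne_zero
  -- minus one
  obtain ⟨p, hp, -⟩ := lift (h1 q1) (h1 q2) (by rw [q1, q2, one_mul]; exact IsSquare.one)
  obtain ⟨r, hr, -⟩ := lift (h1 q2) (h1 q3) (by rw [q2, q3, one_mul]; exact IsSquare.one)
  let m : Γ := p * r * p⁻¹ * r⁻¹
  have hmv : (((m : pairGroup Q) : (CliffordAlgebra Q)ˣ)) = -1 := by
    have hpr : (((p : pairGroup Q) : (CliffordAlgebra Q)ˣ)) * ((r : pairGroup Q) : (CliffordAlgebra Q)ˣ)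
        = -(((r : pairGroup Q) : (CliffordAlgebra Q)ˣ) * ((p : pairGroup Q) : (CliffordAlgebra Q)ˣ)) := by
      refine Units.ext ?_
      rw [Units.val_neg, Units.val_mul, Units.val_mul, hp, hr]
      have e1 : ι Q e₁ * ι Q e₂ * (ι Q e₂ * ι Q e₃) = ι Q e₁ * ι Q e₃ := by
        rw [mul_assoc, ← mul_assoc (ι Q e₂) (ι Q e₂), ι_sq_one q2, one_mul]
      have e2 : ι Q e₂ * ι Q e₃ * (ι Q e₁ * ι Q e₂) = ι Q e₃ * ι Q e₁ := by
        rw [ι_swap p12, ι_swap p23, neg_mul_neg, mul_assoc, ← mul_assoc (ι Q e₂) (ι Q e₂), ι_sq_one q2,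
          one_mul]
      rw [e1, e2, ι_swap p13]
    simp only [m, Subgroup.coe_mul, Subgroup.coe_inv]
    rw [hpr, neg_mul, neg_mul, mul_inv_cancel_right, mul_inv_cancel]
  have hmE : m ∈ commutator Γ :=
    Subgroup.commutator_mem_commutator (Subgroup.mem_top p) (Subgroup.mem_top r)
  have hm1 : σ m = 1 := Subtype.ext (pairRep_eq h2 fun x => by simp [hmv])
  let ι' : commutator Γ →* (CliffordAlgebra Q)ˣ :=
    ((pairGroup Q).subtype.comp Γ.subtype).comp (commutator Γ).subtype
  refine ⟨commutator Γ, inferInstance, inferInstance, π, ⟨m, hmE⟩, hperf, fun g => ?_, fun x hx => ?_,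
    hm1, fun h => ?_, ?_⟩
  · obtain ⟨d, hd, hde⟩ : g ∈ (commutator Γ).map σ := hmap ▸ Subgroup.mem_top g
    exact ⟨⟨d, hd⟩, hde⟩
  · rw [Subgroup.mem_center_iff]
    intro y
    exact Subtype.ext (Subgroup.mem_center_iff.1 (hσc hx) y)
  · have h' := congrArg ι' h
    rw [map_one] at h'
    exact cliff_neg_one_ne (Q := Q) h2 (by
      have := congrArg Units.val ((hmv).symm.trans h')
      simpa using this)
  intro l a b hl hn ha hb hab haa hbb
  -- one plane
  have plane : ∀ i : Fin l, ∃ z : commutator Γ,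
      ((ι' z : (CliffordAlgebra Q)ˣ) : CliffordAlgebra Q) = -(ι Q (a i) * ι Q (b i)) ∧
      (π z : O Q) = rO Q (a i) * rO Q (b i) := by
    intro i
    obtain ⟨j, k, hij, hik, hjk⟩ : ∃ j k : Fin l, i ≠ j ∧ i ≠ k ∧ j ≠ k := by
      obtain ⟨j, -, k, -, hjk⟩ := Finset.one_lt_card.1 (show 1 < (Finset.univ.erase i).card by
        rw [Finset.card_erase_of_mem (Finset.mem_univ i), Finset.card_univ, Fintype.card_fin]; omega)
      by_cases hj : i = j
      · obtain ⟨j', k', h⟩ : ∃ j' k', j' ∈ Finset.univ.erase i ∧ k' ∈ Finset.univ.erase i ∧ j' ≠ k' := by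
          obtain ⟨j', h1, k', h2', h3⟩ := Finset.one_lt_card.1 (show 1 < (Finset.univ.erase i).card by
            rw [Finset.card_erase_of_mem (Finset.mem_univ i), Finset.card_univ, Fintype.card_fin]; omega)
          exact ⟨j', k', h1, h2', h3⟩
        exact ⟨j', k', (Finset.ne_of_mem_erase h.1).symm, (Finset.ne_of_mem_erase h.2.1).symm, h.2.2⟩
      · obtain ⟨k', hk'⟩ : ∃ k', k' ∈ (Finset.univ.erase i).erase j := Finset.Nonempty.exists_mem (by
          rw [← Finset.card_pos, Finset.card_erase_of_mem (Finset.mem_erase.2 ⟨Ne.symm hj, Finset.mem_univ j⟩),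
            Finset.card_erase_of_mem (Finset.mem_univ i), Finset.card_univ, Fintype.card_fin]
          omega)
        exact ⟨j, k', hj, (Finset.ne_of_mem_erase (Finset.mem_of_mem_erase hk')).symm,
          (Finset.ne_of_mem_erase hk').symm⟩
    set c := a j + b j with hc
    have hs : Q (a i + b i) = 2 := by rw [map_add_polar, ha, hb, hab]; ring
    have hcQ : Q c = 2 := by rw [hc, map_add_polar, ha, hb, hab]; ring
    obtain ⟨x, hx, hxσ⟩ := lift (h1 (ha i)) (h1 (ha k)) (by rw [ha, ha, one_mul]; exact IsSquare.one)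
    obtain ⟨y, hy, -⟩ := lift (v := a i + b i) (w := c) (by rw [hs]; exact h2) (by rw [hcQ]; exact h2)
      (by rw [hs, hcQ]; exact ⟨2, rfl⟩)
    have hz : IsUnit (-(ι Q (a i) * ι Q (b i))) :=
      ((CliffordAlgebra.isUnit_ι_of_isUnit _ (Ne.isUnit (h1 (ha i)))).mul
        (CliffordAlgebra.isUnit_ι_of_isUnit _ (Ne.isUnit (h1 (hb i))))).neg
    have key : (((x : pairGroup Q) : (CliffordAlgebra Q)ˣ)) * ((y : pairGroup Q) : (CliffordAlgebra Q)ˣ)
        = hz.unit * (((y : pairGroup Q) : (CliffordAlgebra Q)ˣ) * ((x : pairGroup Q) : (CliffordAlgebra Q)ˣ)) := by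
      refine Units.ext ?_
      have hg : ∀ t, ((x : pairGroup Q) : (CliffordAlgebra Q)ˣ).val * ι Q t =
          ι Q ((((rO Q (a i) * rO Q (a k) : O Q)) : V ≃ₗ[F] V) t) *
            ((x : pairGroup Q) : (CliffordAlgebra Q)ˣ).val := fun t => by
        rw [hx]; exact ι_pair (h1 (ha i)) (h1 (ha k)) t
      have g1 : (((rO Q (a i) * rO Q (a k) : O Q)) : V ≃ₗ[F] V) (a i + b i) = -(a i) + b i := by
        rw [Subgroup.coe_mul, Orthogonal.mul_app, map_add, rO_fix (haa _ _ hik.symm),
          rO_fix (hab k i), map_add, rO_self (h1 (ha i)), rO_fix (hab i i)]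
      have g2 : (((rO Q (a i) * rO Q (a k) : O Q)) : V ≃ₗ[F] V) c = c := by
        rw [Subgroup.coe_mul, Orthogonal.mul_app, hc, map_add, rO_fix (haa _ _ hjk.symm),
          rO_fix (hab k j), map_add, rO_fix (haa _ _ hij), rO_fix (hab i j)]
      rw [Units.val_mul, Units.val_mul, Units.val_mul, hz.unit_spec, hy, ← mul_assoc, hg, g1,
        mul_assoc, hg, g2, ← mul_assoc, ← mul_assoc (-(ι Q (a i) * ι Q (b i))), ← mul_assoc
          (-(ι Q (a i) * ι Q (b i)))]
      congr 2
      rw [map_add, map_add, map_neg, mul_add, neg_mul, mul_assoc, ι_swap ((polar_comm _ _ _).trans (hab i i)),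
        mul_neg, neg_neg, ← mul_assoc, ι_sq_one (ha i), one_mul, neg_mul, mul_assoc, ι_sq_one (hb i), mul_one,
        add_comm]
    refine ⟨⟨x * y * x⁻¹ * y⁻¹,
      Subgroup.commutator_mem_commutator (Subgroup.mem_top x) (Subgroup.mem_top y)⟩, ?_, ?_⟩
    · show (((x * y * x⁻¹ * y⁻¹ : Γ) : pairGroup Q) : (CliffordAlgebra Q)ˣ).val = _
      simp only [Subgroup.coe_mul, Subgroup.coe_inv]
      rw [key]
      simp [mul_assoc, hz.unit_spec]
    · refine pairRep_eq h2 fun t => ?_
      show (((x * y * x⁻¹ * y⁻¹ : Γ) : pairGroup Q) : (CliffordAlgebra Q)ˣ).val * ι Q t =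
        _ * (((x * y * x⁻¹ * y⁻¹ : Γ) : pairGroup Q) : (CliffordAlgebra Q)ˣ).val
      simp only [Subgroup.coe_mul, Subgroup.coe_inv]
      rw [key]
      simp only [mul_assoc, mul_inv_cancel, mul_one, Units.val_mul, hz.unit_spec, neg_mul,
        mul_inv_cancel_left, Units.mul_inv, mul_neg, neg_inj]
      rw [← mul_assoc]
      exact ι_pair (h1 (ha i)) (h1 (hb i)) t
  have h0 : ∀ i, Q (a i) ≠ 0 ∧ Q (b i) ≠ 0 := fun i => ⟨h1 (ha i), h1 (hb i)⟩
  have key : ∀ k ≤ l, ∃ y : commutator Γ, y * y = (⟨m, hmE⟩ : commutator Γ) ^ k ∧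
      ∀ i : Fin l, (i.1 < k → ((π y : O Q) : V ≃ₗ[F] V) (a i) = -(a i) ∧
          ((π y : O Q) : V ≃ₗ[F] V) (b i) = -(b i)) ∧
        (k ≤ i.1 → ((π y : O Q) : V ≃ₗ[F] V) (a i) = a i ∧
          ((π y : O Q) : V ≃ₗ[F] V) (b i) = b i) := by
    intro k hk
    induction k with
    | zero => exact ⟨1, by simp, fun i => ⟨fun h => absurd h (Nat.not_lt_zero _), fun _ => by simp⟩⟩
    | succ k ih =>
      obtain ⟨y, hy, hyi⟩ := ih (by omega)
      set j : Fin l := ⟨k, hk⟩ with hj
      obtain ⟨z, hz, hzπ⟩ := plane j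
      have hcomm : y * z = z * y := by
        refine Subtype.ext (Subtype.ext (Subtype.ext (Units.ext ?_)))
        have hv : ∀ x, ((π y : O Q) : V ≃ₗ[F] V) x = x →
            ((ι' y : (CliffordAlgebra Q)ˣ) : CliffordAlgebra Q) * ι Q x =
              ι Q x * ((ι' y : (CliffordAlgebra Q)ˣ) : CliffordAlgebra Q) := fun x hx => by
          have := pairRep_spec h2 (((y : Γ) : pairGroup Q)) x
          rwa [show ((pairRep h2 ((y : Γ) : pairGroup Q)) : V ≃ₗ[F] V) x = x from hx] at this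
        obtain ⟨fa, fb⟩ := (hyi j).2 le_rfl
        show ((ι' (y * z) : (CliffordAlgebra Q)ˣ) : CliffordAlgebra Q) =
          ((ι' (z * y) : (CliffordAlgebra Q)ˣ) : CliffordAlgebra Q)
        rw [map_mul, map_mul, Units.val_mul, Units.val_mul, hz, mul_neg, neg_mul, ← mul_assoc, hv _ fa,
          mul_assoc, hv _ fb, mul_assoc]
      have hzz : z * z = (⟨m, hmE⟩ : commutator Γ) := by
        refine Subtype.ext (Subtype.ext (Subtype.ext (Units.ext ?_)))
        show ((ι' (z * z) : (CliffordAlgebra Q)ˣ) : CliffordAlgebra Q) = _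
        rw [map_mul, Units.val_mul, hz, hmv, neg_mul_neg, Units.val_neg, Units.val_one]
        calc ι Q (a j) * ι Q (b j) * (ι Q (a j) * ι Q (b j))
            = ι Q (a j) * (ι Q (b j) * ι Q (a j)) * ι Q (b j) := by simp only [mul_assoc]
          _ = -(ι Q (a j) * ι Q (a j) * (ι Q (b j) * ι Q (b j))) := by
            rw [ι_swap ((polar_comm _ _ _).trans (hab j j)), mul_neg, neg_mul]
            simp only [mul_assoc]
          _ = -1 := by rw [ι_sq_one (ha j), ι_sq_one (hb j), one_mul]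
      refine ⟨y * z, ?_, fun i => ?_⟩
      · rw [pow_succ, ← hy, ← hzz]
        calc y * z * (y * z) = y * (z * y) * z := by group
          _ = y * (y * z) * z := by rw [hcomm]
          _ = y * y * (z * z) := by group
      have happ : ∀ x, ((π (y * z) : O Q) : V ≃ₗ[F] V) x =
          ((π y : O Q) : V ≃ₗ[F] V) (((rO Q (a j) * rO Q (b j) : O Q) : V ≃ₗ[F] V) x) := fun x => by
        rw [map_mul, Subgroup.coe_mul, hzπ]
        rfl
      rw [happ, happ, Subgroup.coe_mul, Orthogonal.mul_app, Orthogonal.mul_app]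
      by_cases hi : i = j
      · rw [hi, rO_fix ((polar_comm Q (b j) (a j)).trans (hab j j)), rO_self (h0 j).1, rO_self (h0 j).2,
          map_neg, map_neg, map_neg, rO_fix (hab j j), ((hyi j).2 le_rfl).1,
          ((hyi j).2 le_rfl).2]
        exact ⟨fun _ => ⟨rfl, rfl⟩, fun h => absurd h (by simp [hj])⟩
      · rw [rO_fix ((polar_comm Q (b j) (a i)).trans (hab i j)), rO_fix (hbb j i (Ne.symm hi)),
          rO_fix (haa j i (Ne.symm hi)), rO_fix (hab j i)]
        have hne : i.1 ≠ k := fun h => hi (Fin.ext h)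
        exact ⟨fun h => (hyi i).1 (by omega), fun h => (hyi i).2 (by omega)⟩
  obtain ⟨y, hy, hyi⟩ := key l le_rfl
  refine ⟨y, fun x => ?_, hy⟩
  have hli : LinearIndependent F (Sum.elim a b) := by
    rw [Fintype.linearIndependent_iff]
    intro g hg s
    have h := congrArg (Q.polarBilin (Sum.elim a b s)) hg
    rw [map_sum, map_zero, Finset.sum_eq_single s] at h
    · rw [map_smul, smul_eq_mul, polarBilin_apply', polar_self', mul_eq_zero] at h
      refine h.resolve_right (mul_ne_zero h2 ?_)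
      rcases s with i | i
      exacts [(h0 i).1, (h0 i).2]
    · intro t _ ht
      rw [map_smul, smul_eq_mul, polarBilin_apply']
      rcases s with i | i <;> rcases t with t | t <;> simp only [Sum.elim_inl, Sum.elim_inr]
      · rw [haa i t (fun h => ht (by rw [h])), mul_zero]
      · rw [hab, mul_zero]
      · rw [polar_comm, hab, mul_zero]
      · rw [hbb i t (fun h => ht (by rw [h])), mul_zero]
    · intro h; exact absurd (Finset.mem_univ s) h
  have hspan := hli.span_eq_top_of_card_eq_finrank' (by simp; omega)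
  have : ((π y : O Q) : V ≃ₗ[F] V).toLinearMap = -LinearMap.id := by
    refine LinearMap.ext_on_range hspan fun s => ?_
    rcases s with i | i
    exacts [((hyi i).1 i.2).1, ((hyi i).1 i.2).2]
  exact LinearMap.congr_fun this x

end Cfsg.Agent.H97.Omega
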