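/-
Stem extensions relative to a point stabiliser: quotients making the sections of an orbit faithful,
and the glueing inside a stabiliser.
-/
import Cfsg.Agent.H97.Omega.Glue

set_option autoImplicit false
set_option linter.unusedSectionVars false

namespace Cfsg.Agent.H97.Omega

open Subgroup MulAction
open scoped commutatorElement

universe u v

variable {Γ : Type u} {G : Type u} [Group Γ] [Group G] {S : Type v} [MulAction G S]

theorem card_comap {Δ : Type*} [Group Δ] [Finite Γ] {f : Γ →* Δ} (hf : Function.Surjective f)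
    (K : Subgroup Δ) : Nat.card (K.comap f) = Nat.card f.ker * Nat.card K := by
  rw [← Subgroup.card_mul_index (f.ker.subgroupOf (K.comap f))]
  congr 1
  · exact Nat.card_congr (Subgroup.subgroupOfEquivOfLe (by
      intro x hx
      rw [Subgroup.mem_comap, MonoidHom.mem_ker.1 hx]
      exact one_mem _)).toEquiv
  · show f.ker.relIndex (K.comap f) = _
    rw [← MonoidHom.comap_bot f, Subgroup.relIndex_comap, Subgroup.map_comap_eq_self_of_surjective hf,
      Subgroup.relIndex_bot_left]

/-- Stabilisers of pairs. -/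
theorem stab_prod {T : Type*} [MulAction G T] (a : S) (b : T) :
    stabilizer G (a, b) = stabilizer G a ⊓ stabilizer G b := by
  ext g
  simp [mem_stabilizer_iff, Prod.ext_iff]

theorem stabX_congr {σ : Γ →* G} {T : Type*} [MulAction G T] {a : S} {b : T}
    (h : stabilizer G a = stabilizer G b) : stabX σ a = stabX σ b := by
  rw [stabX, stabX, h]

/-- A quotient of a stem extension in which the sections of an orbit are faithful. -/
theorem exists_inj_quotient [Finite Γ] {σ : Γ →* G} (hσ : Cfsg.IsStemExtension σ) (o : S) :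
    ∃ (Δ : Type u) (_ : Group Δ) (_ : Finite Δ) (τ : Δ →* G), Cfsg.IsStemExtension τ ∧
      (∀ g : G, ∀ x ∈ stabX τ (g • o), τ x = 1 → x = 1) ∧
      Nat.card σ.ker = Nat.card ↥(σ.ker ⊓ stabX σ o) * Nat.card τ.ker := by
  obtain ⟨hs, hc, hd⟩ := hσ
  set Z₀ : Subgroup Γ := σ.ker ⊓ stabX σ o with hZ₀
  have hZn : Z₀.Normal := ⟨fun z hz g => by
    rw [mem_center_iff.1 (hc hz.1) g, mul_inv_cancel_right]; exact hz⟩
  let τ : Γ ⧸ Z₀ →* G := QuotientGroup.lift Z₀ σ fun z hz => hz.1
  refine ⟨Γ ⧸ Z₀, inferInstance, inferInstance, τ, ⟨fun g => ?_, fun y hy => ?_, fun y hy => ?_⟩,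
    fun g y hy h1 => ?_, ?_⟩
  · obtain ⟨x, hx⟩ := hs g; exact ⟨QuotientGroup.mk x, hx⟩
  · obtain ⟨x, rfl⟩ := QuotientGroup.mk_surjective y
    rw [mem_center_iff]
    intro y'
    obtain ⟨x', rfl⟩ := QuotientGroup.mk_surjective y'
    exact congrArg (QuotientGroup.mk' Z₀) (mem_center_iff.1 (hc hy) x')
  · obtain ⟨x, rfl⟩ := QuotientGroup.mk_surjective y
    rw [_root_.commutator_def,
      ← map_top_of_surjective (QuotientGroup.mk' Z₀) (QuotientGroup.mk'_surjective Z₀),
      ← map_commutator, ← _root_.commutator_def]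
    exact mem_map_of_mem _ (hd hy)
  · have hle : stabX τ (g • o) ≤ (stabX σ (g • o)).map (QuotientGroup.mk' Z₀) := by
      rw [stabX, stabX, map_commutator]
      refine commutator_mono ?_ ?_ <;>
      · intro z hz
        obtain ⟨x, rfl⟩ := QuotientGroup.mk_surjective z
        exact ⟨x, hz, rfl⟩
    obtain ⟨x, hx, rfl⟩ := hle hy
    obtain ⟨e, rfl⟩ := hs g
    have h2 := stabX_conj hx e⁻¹
    rw [map_inv, inv_smul_smul, inv_inv, mem_center_iff.1 (hc (MonoidHom.mem_ker.2 h1)) e⁻¹,
      inv_mul_cancel_right] at h2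
    exact (QuotientGroup.eq_one_iff x).2 ⟨h1, h2⟩
  · have hk : τ.ker.comap (QuotientGroup.mk' Z₀) = σ.ker := rfl
    conv_lhs => rw [← hk]
    rw [card_comap (QuotientGroup.mk'_surjective Z₀), QuotientGroup.ker_mk']

/-- The restriction of an extension to the preimage of a subgroup. -/
def relMap (τ : Γ →* G) (H : Subgroup G) : H.comap τ →* H :=
  (τ.comp (H.comap τ).subtype).codRestrict H fun x => x.2

theorem relMap_apply (τ : Γ →* G) (H : Subgroup G) (x : H.comap τ) :
    ((relMap τ H x : H) : G) = τ x := rfl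

/-- Sections of the restriction are sections of pairs. -/
theorem map_stabX_rel (τ : Γ →* G) {H : Subgroup G} {T : Type*} [MulAction H T] {p : S} {t : T}
    (h : (stabilizer H t).map H.subtype = stabilizer G p) :
    (stabX (relMap τ H) t).map (H.comap τ).subtype = stabX τ p := by
  rw [stabX, stabX, map_commutator]
  suffices hh : ((stabilizer H t).comap (relMap τ H)).map (H.comap τ).subtype =
      (stabilizer G p).comap τ by rw [hh]
  rw [← h]
  ext x
  constructor
  · rintro ⟨y, hy, rfl⟩
    exact ⟨relMap τ H y, hy, rfl⟩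
  · rintro ⟨y, hy, he⟩
    have hx : τ x ∈ H := by rw [← he]; exact y.2
    refine ⟨⟨x, hx⟩, ?_, rfl⟩
    show relMap τ H ⟨x, hx⟩ ∈ stabilizer H t
    rw [show relMap τ H ⟨x, hx⟩ = y from Subtype.ext he.symm]
    exact hy

/-- Glueing inside a stabiliser: the section at the point is faithful. -/
theorem inj_of_rel {τ : Γ →* G} (hc : τ.ker ≤ center Γ) {a : S} {T : Type*}
    [MulAction (stabilizer G a) T] {R : T → T → Prop}
    (L : Sheaf (relMap τ (stabilizer G a)) R) (o : T) {x : Γ} (hx : x ∈ stabX τ a) (h1 : τ x = 1) :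
    x = 1 := by
  have hmap : (commutator ↥((stabilizer G a).comap τ)).map ((stabilizer G a).comap τ).subtype = stabX τ a := by
    rw [map_subtype_commutator]; rfl
  obtain ⟨y, hy, rfl⟩ : x ∈ (commutator ↥((stabilizer G a).comap τ)).map ((stabilizer G a).comap τ).subtype := hmap ▸ hx
  have hle : commutator ↥((stabilizer G a).comap τ) ≤ ⨆ t : T, stabX (relMap τ (stabilizer G a)) t := by
    set W := ⨆ t : T, stabX (relMap τ (stabilizer G a)) t with hW
    have key : ∀ p : ↥((stabilizer G a).comap τ), ∃ w ∈ W, ∃ z ∈ center ↥((stabilizer G a).comap τ), p = w * z := fun p => by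
      obtain ⟨w, hw, he⟩ : relMap τ (stabilizer G a) p ∈ W.map (relMap τ (stabilizer G a)) := by
        rw [L.map_iSup o]; exact mem_top _
      refine ⟨w, hw, w⁻¹ * p, ?_, (mul_inv_cancel_left _ _).symm⟩
      have hk : relMap τ (stabilizer G a) (w⁻¹ * p) = 1 := by rw [map_mul, map_inv, he, inv_mul_cancel]
      rw [mem_center_iff]
      intro q
      exact Subtype.ext (mem_center_iff.1 (hc (show ((w⁻¹ * p : ↥((stabilizer G a).comap τ)) : Γ) ∈ τ.ker from
        congrArg Subtype.val hk)) q)
    rw [_root_.commutator_def, Subgroup.commutator_le]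
    intro p _ q _
    obtain ⟨w, hw, z, hz, rfl⟩ := key p
    obtain ⟨w', hw', z', hz', rfl⟩ := key q
    rw [commutatorElement_def, Cfsg.Agent.H74.Schur.commutatorElement_mul_central hz hz']
    exact mul_mem (mul_mem (mul_mem hw hw') (inv_mem hw)) (inv_mem hw')
  exact congrArg Subtype.val (L.inj_iSup o (hle hy) (Subtype.ext h1))

end Cfsg.Agent.H97.Omega
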