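/-
Three elements: the multiplier of `Ω` in dimension eight of minus type is at most two.
-/
import Cfsg.Agent.H97.Omega.OddBase
import Cfsg.Agent.H97.Omega.Relative

set_option autoImplicit false
set_option linter.unusedSectionVars false
set_option maxHeartbeats 1000000

namespace Cfsg.Agent.H97.Omega

open QuadraticMap Module
open Cfsg.Agent.Orthogonal Cfsg.Agent.Orthogonal.IsFrame

universe u v

variable {F : Type u} {V : Type v} [Field F] [AddCommGroup V] [Module F V] [FiniteDimensional F V]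
  [Finite F] {Q : QuadraticForm F V}

/-- The span of an orthogonal family of non-zero norms. -/
theorem nondeg_span_orth (h2 : (2 : F) ≠ 0) {k : ℕ} (v : Fin k → V) (hv : ∀ i, Q (v i) ≠ 0)
    (ho : ∀ i j, i ≠ j → polar Q (v i) (v j) = 0) :
    Nondeg (restr Q (Submodule.span F (Set.range v))) ∧
      finrank F (Submodule.span F (Set.range v)) = k := by
  refine ⟨?_, by rw [finrank_span_eq_card (li_orth h2 v hv ho), Fintype.card_fin]⟩
  rw [nondeg_restr_iff, eq_bot_iff]
  rintro x ⟨hx, hxp⟩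
  obtain ⟨g, rfl⟩ := (Submodule.mem_span_range_iff_exists_fun F).1 hx
  have hg : ∀ i, g i = 0 := fun i => by
    have h : Q.polarBilin (v i) (∑ j, g j • v j) = 0 := hxp _ (Submodule.subset_span ⟨i, rfl⟩)
    rw [map_sum, Finset.sum_eq_single i] at h
    · rw [map_smul, smul_eq_mul, polarBilin_apply', polar_self', mul_eq_zero] at h
      exact h.resolve_right (mul_ne_zero h2 (hv i))
    · intro j _ hj
      rw [map_smul, smul_eq_mul, polarBilin_apply', ho i j hj.symm, mul_zero]
    · intro h; exact absurd (Finset.mem_univ i) h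
  simp [hg]

variable {c : F}

/-- The orthogonal neighbours of a point of a sphere. -/
abbrev NbSet (Q : QuadraticForm F V) (v : Sph Q c) : Type _ := {a : Sph Q c // Orth Q c v a}

instance (v : Sph Q c) :
    MulAction (MulAction.stabilizer (commutator (O Q)) v) (NbSet Q v) where
  smul g a := ⟨(g : commutator (O Q)) • a.1, by
    show polar Q v.1 ((g : commutator (O Q)) • a.1).1 = 0
    have hg : (((g : commutator (O Q)) : O Q) : V ≃ₗ[F] V) v.1 = v.1 := mem_stab.1 g.2
    rw [sph_smul, ← hg, O.polar_app]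
    exact a.2⟩
  one_smul a := Subtype.ext (one_smul (commutator (O Q)) a.1)
  mul_smul g h a := Subtype.ext (mul_smul (g : commutator (O Q)) (h : commutator (O Q)) a.1)

theorem nb_smul {v : Sph Q c} (g : MulAction.stabilizer (commutator (O Q)) v) (a : NbSet Q v) :
    (g • a).1 = (g : commutator (O Q)) • a.1 := rfl

theorem map_stab_nb (v : Sph Q c) (a : NbSet Q v) :
    (MulAction.stabilizer (MulAction.stabilizer (commutator (O Q)) v) a).map
      (MulAction.stabilizer (commutator (O Q)) v).subtype =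
    MulAction.stabilizer (commutator (O Q)) (v, a.1) := by
  ext g
  rw [stab_prod, Subgroup.mem_inf]
  constructor
  · rintro ⟨h, hh, rfl⟩
    exact ⟨h.2, MulAction.mem_stabilizer_iff.2 (congrArg Subtype.val (MulAction.mem_stabilizer_iff.1 hh))⟩
  · rintro ⟨h1, h2⟩
    exact ⟨⟨g, h1⟩, MulAction.mem_stabilizer_iff.2 (Subtype.ext (MulAction.mem_stabilizer_iff.1 h2)), rfl⟩

theorem commutator_map_eq {G : Type*} [Group G] {H : Subgroup G} {K : Subgroup H}
    (h : ⁅K.map H.subtype, K.map H.subtype⁆ = K.map H.subtype) : ⁅K, K⁆ = K := by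
  apply Subgroup.map_injective H.subtype_injective
  rw [Subgroup.map_commutator, h]

variable (hQ : Nondeg Q) (h2 : (2 : F) ≠ 0) (hc : c ≠ 0) (h8 : finrank F V = 8)
  (hsq : ∀ x : F, x ≠ 0 → x ^ 2 = 1)
include hQ h2 hc h8 hsq

theorem triple_perfect {v : Sph Q c} {a d : NbSet Q v} (h : Orth Q c a.1 d.1) :
    ⁅MulAction.stabilizer (MulAction.stabilizer (commutator (O Q)) v) a ⊓
        MulAction.stabilizer (MulAction.stabilizer (commutator (O Q)) v) d,
      MulAction.stabilizer (MulAction.stabilizer (commutator (O Q)) v) a ⊓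
        MulAction.stabilizer (MulAction.stabilizer (commutator (O Q)) v) d⁆ =
      MulAction.stabilizer (MulAction.stabilizer (commutator (O Q)) v) a ⊓
        MulAction.stabilizer (MulAction.stabilizer (commutator (O Q)) v) d := by
  refine commutator_map_eq ?_
  obtain ⟨hn, hf⟩ := nondeg_span_orth (Q := Q) h2 ![v.1, a.1.1, d.1.1]
    (by intro i; fin_cases i <;> simp [v.2, a.1.2, d.1.2, hc]) (by
      have k1 : polar Q v.1 a.1.1 = 0 := a.2
      have k2 : polar Q v.1 d.1.1 = 0 := d.2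
      have k3 : polar Q a.1.1 d.1.1 = 0 := h
      intro i j hij
      fin_cases i <;> fin_cases j <;> simp at hij ⊢ <;>
        simp [k1, k2, k3, polar_comm (⇑Q) a.1.1 v.1, polar_comm (⇑Q) d.1.1 v.1,
          polar_comm (⇑Q) d.1.1 a.1.1])
  have hK : (MulAction.stabilizer (MulAction.stabilizer (commutator (O Q)) v) a ⊓
      MulAction.stabilizer (MulAction.stabilizer (commutator (O Q)) v) d).map
      (MulAction.stabilizer (commutator (O Q)) v).subtype =
      omFix Q (perp Q (Submodule.span F (Set.range ![v.1, a.1.1, d.1.1]))) := by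
    rw [Subgroup.map_inf _ _ _ (Subgroup.subtype_injective _), map_stab_nb, map_stab_nb, stab_prod,
      stab_prod]
    ext g
    simp only [Subgroup.mem_inf, mem_stab, mem_omFix, hQ.perp_perp]
    refine ⟨fun ⟨⟨g1, g2⟩, _, g3⟩ y hy => ?_, fun hg => ?_⟩
    · obtain ⟨f, rfl⟩ := (Submodule.mem_span_range_iff_exists_fun F).1 hy
      simp [Fin.sum_univ_three, g1, g2, g3]
    · have k := fun i => hg _ (Submodule.subset_span ⟨i, rfl⟩)
      exact ⟨⟨k 0, k 1⟩, k 0, k 2⟩
  rw [hK]
  refine omFix_perfect hQ h2 (hQ.nondeg_perp hn) ?_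
  have := hQ.finrank_add_perp (Submodule.span F (Set.range ![v.1, a.1.1, d.1.1]))
  omega

theorem nb_stab_perfect {v : Sph Q c} (a : NbSet Q v) :
    ⁅MulAction.stabilizer (MulAction.stabilizer (commutator (O Q)) v) a,
      MulAction.stabilizer (MulAction.stabilizer (commutator (O Q)) v) a⁆ =
      MulAction.stabilizer (MulAction.stabilizer (commutator (O Q)) v) a := by
  refine commutator_map_eq ?_
  rw [map_stab_nb, stab_prod]
  exact (odd_geometry hQ h2 hc (by omega)).pair_perfect v a.1 a.2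

variable {Δ : Type v} [Group Δ] {τ : Δ →* commutator (O Q)} (hτ : Function.Surjective τ)
  (hτc : τ.ker ≤ Subgroup.center Δ)
  (hinj : ∀ v a : Sph Q c, Orth Q c v a → ∀ x ∈ stabX τ (v, a), τ x = 1 → x = 1)
include hτ hτc hinj

theorem relMap_surj (v : Sph Q c) :
    Function.Surjective (relMap τ (MulAction.stabilizer (commutator (O Q)) v)) := fun g => by
  obtain ⟨x, hx⟩ := hτ g.1
  exact ⟨⟨x, show τ x ∈ MulAction.stabilizer (commutator (O Q)) v from hx ▸ g.2⟩, Subtype.ext hx⟩

theorem rel_inj {v : Sph Q c} (a : NbSet Q v)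
    (x : ↥((MulAction.stabilizer (commutator (O Q)) v).comap τ))
    (hx : x ∈ stabX (relMap τ (MulAction.stabilizer (commutator (O Q)) v)) a)
    (h1 : relMap τ _ x = 1) : x = 1 :=
  Subtype.ext (hinj v a.1 a.2 x (map_stabX_rel τ (map_stab_nb v a) ▸ Subgroup.mem_map_of_mem _ hx)
    (congrArg Subtype.val h1))

/-- One step inside the stabiliser of `v`. -/
theorem rel_step {v : Sph Q c} {a b d e : NbSet Q v} (hde : Orth Q c d.1 e.1) (had : Orth Q c a.1 d.1)
    (hae : Orth Q c a.1 e.1) (hbd : Orth Q c b.1 d.1) (hbe : Orth Q c b.1 e.1) :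
    SameMove (relMap τ (MulAction.stabilizer (commutator (O Q)) v)) a b d e := by
  have hn : Nat.card F ≠ 2 ∨ finrank F V ≠ 4 := Or.inr (by omega)
  have hsym : ∀ {p q : Sph Q c}, Orth Q c p q → polar Q q.1 p.1 = 0 := fun h => (polar_comm _ _ _).trans h
  have hdet : ∀ x : NbSet Q v, Orth Q c x.1 d.1 → Orth Q c x.1 e.1 → ∀ i j : Fin 4, i ≠ j →
      polar Q (![v.1, d.1.1, e.1.1, x.1.1] i) (![v.1, d.1.1, e.1.1, x.1.1] j) = 0 := by
    intro x hxd hxe i j hij
    have k1 : polar Q v.1 d.1.1 = 0 := d.2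
    have k2 : polar Q v.1 e.1.1 = 0 := e.2
    have k3 : polar Q v.1 x.1.1 = 0 := x.2
    have k4 : polar Q d.1.1 e.1.1 = 0 := hde
    have k5 : polar Q x.1.1 d.1.1 = 0 := hxd
    have k6 : polar Q x.1.1 e.1.1 = 0 := hxe
    fin_cases i <;> fin_cases j <;> simp at hij ⊢ <;>
      first | assumption | (exact (polar_comm _ _ _).trans k1) | (exact (polar_comm _ _ _).trans k2) | (exact (polar_comm _ _ _).trans k3) | (exact (polar_comm _ _ _).trans k4) | (exact (polar_comm _ _ _).trans k5) | (exact (polar_comm _ _ _).trans k6)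
  have hval : ∀ x : NbSet Q v, ∀ i : Fin 4, Q (![v.1, d.1.1, e.1.1, x.1.1] i) = c := by
    intro x i; fin_cases i <;> simp [v.2, d.1.2, e.1.2, x.1.2]
  obtain ⟨hP, hPd⟩ := nondeg_span_orth (Q := Q) h2 ![v.1, d.1.1]
    (by intro i; fin_cases i <;> simp [v.2, d.1.2, hc]) (by
      have k1 : polar Q v.1 d.1.1 = 0 := d.2
      intro i j hij
      fin_cases i <;> fin_cases j <;> simp at hij ⊢ <;>
        first | exact k1 | (exact (polar_comm _ _ _).trans k1))
  obtain ⟨g, hg⟩ := exists_om_family hQ hn (li_orth (Q := Q) h2 _ (fun i => by rw [hval a i]; exact hc) (hdet a had hae))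
    (li_orth (Q := Q) h2 _ (fun i => by rw [hval b i]; exact hc) (hdet b hbd hbe))
    (fun i => by rw [hval, hval]) (fun i j hij => by rw [hdet a had hae i j hij, hdet b hbd hbe i j hij])
    _ (Submodule.span_le.2 (by
      rintro _ ⟨i, rfl⟩
      fin_cases i
      · exact Submodule.subset_span ⟨0, rfl⟩
      · exact Submodule.subset_span ⟨1, rfl⟩)) hP (by omega)
  let g' : MulAction.stabilizer (commutator (O Q)) v := ⟨g, mem_stab.2 (hg 0)⟩
  obtain ⟨x, hx, hxg⟩ := stabX_onto (relMap_surj hQ h2 hc h8 hsq hτ hτc hinj v)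
    (nb_stab_perfect hQ h2 hc h8 hsq d) (g := g') (Subtype.ext (Subtype.ext (hg 1)))
  obtain ⟨y, hy, hyg⟩ := stabX_onto (relMap_surj hQ h2 hc h8 hsq hτ hτc hinj v)
    (nb_stab_perfect hQ h2 hc h8 hsq e) (g := g') (Subtype.ext (Subtype.ext (hg 2)))
  have ga : g' • a = b := Subtype.ext (Subtype.ext (hg 3))
  refine ⟨x, hx, y, hy, by rw [hxg, ga], by rw [hyg, ga], ?_⟩
  rw [stabX_agree (relMap_surj hQ h2 hc h8 hsq hτ hτc hinj v) (rel_inj hQ h2 hc h8 hsq hτ hτc hinj)
    (triple_perfect hQ h2 hc h8 hsq hde) hx hy (hxg.trans hyg.symm), inv_mul_cancel]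
  exact one_mem _

/-- Two steps through a common neighbour. -/
theorem rel_via {v : Sph Q c} {a b d d' : NbSet Q v} (had : Orth Q c a.1 d.1) (hbd : Orth Q c b.1 d.1)
    (had' : Orth Q c a.1 d'.1) (hbd' : Orth Q c b.1 d'.1)
    (hS : finrank F (Submodule.span F (Set.range ![v.1, a.1.1, b.1.1, d.1.1, d'.1.1])) ≤ 4) :
    SameMove (relMap τ (MulAction.stabilizer (commutator (O Q)) v)) a b d d' := by
  obtain ⟨hP, hPd⟩ := nondeg_span_orth (Q := Q) h2 ![v.1, a.1.1, d.1.1]
    (by intro i; fin_cases i <;> simp [v.2, a.1.2, d.1.2, hc]) (by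
      have k1 : polar Q v.1 a.1.1 = 0 := a.2
      have k2 : polar Q v.1 d.1.1 = 0 := d.2
      have k3 : polar Q a.1.1 d.1.1 = 0 := had
      intro i j hij
      fin_cases i <;> fin_cases j <;> simp at hij ⊢ <;>
        first | assumption | (exact (polar_comm _ _ _).trans k1) | (exact (polar_comm _ _ _).trans k2) | (exact (polar_comm _ _ _).trans k3))
  obtain ⟨x, hx, hxc, -⟩ := perp_value hQ (Submodule.span F (Set.range ![v.1, a.1.1, b.1.1, d.1.1, d'.1.1]))
    _ (Submodule.span_le.2 (by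
      rintro _ ⟨i, rfl⟩
      fin_cases i
      · exact Submodule.subset_span ⟨0, rfl⟩
      · exact Submodule.subset_span ⟨1, rfl⟩
      · exact Submodule.subset_span ⟨3, rfl⟩)) hP (by omega) c
  have hx' := fun i => hx _ (Submodule.subset_span (R := F)
    (s := Set.range ![v.1, a.1.1, b.1.1, d.1.1, d'.1.1]) ⟨i, rfl⟩)
  let e : NbSet Q v := ⟨⟨x, hxc⟩, hx' 0⟩
  exact (rel_step hQ h2 hc h8 hsq hτ hτc hinj (e := e) (hx' 3) had (hx' 1) hbd (hx' 2)).trans
    (relMap_surj hQ h2 hc h8 hsq hτ hτc hinj v) (rel_inj hQ h2 hc h8 hsq hτ hτc hinj)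
    (nb_stab_perfect hQ h2 hc h8 hsq a) (triple_perfect hQ h2 hc h8 hsq (d := e) (hx' 1))
    (rel_step hQ h2 hc h8 hsq hτ hτc hinj (d := e) (e := d') ((polar_comm _ _ _).trans (hx' 4)) (hx' 1)
      had' (hx' 2) hbd')

/-- All neighbours give the same move inside the stabiliser of `v`. -/
theorem rel_move {v : Sph Q c} {a b d d' : NbSet Q v} (had : Orth Q c a.1 d.1)
    (hbd : Orth Q c b.1 d.1) (had' : Orth Q c a.1 d'.1) (hbd' : Orth Q c b.1 d'.1) :
    SameMove (relMap τ (MulAction.stabilizer (commutator (O Q)) v)) a b d d' := by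
  classical
  set H := MulAction.stabilizer (commutator (O Q)) v with hH
  set S := Submodule.span F (Set.range ![v.1, a.1.1, b.1.1, d.1.1, d'.1.1]) with hSdef
  by_cases hdd : polar Q d.1.1 d'.1.1 = 0
  · exact rel_step hQ h2 hc h8 hsq hτ hτc hinj hdd had had' hbd hbd'
  by_cases hS : finrank F S ≤ 4
  · exact rel_via hQ h2 hc h8 hsq hτ hτc hinj had hbd had' hbd' hS
  by_cases hab : polar Q a.1.1 b.1.1 = 0
  · obtain ⟨hP, hPd⟩ := nondeg_span_orth (Q := Q) h2 ![v.1, a.1.1, b.1.1, d.1.1]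
      (by intro i; fin_cases i <;> simp [v.2, a.1.2, b.1.2, d.1.2, hc]) (by
        have k1 : polar Q v.1 a.1.1 = 0 := a.2
        have k2 : polar Q v.1 d.1.1 = 0 := d.2
        have k3 : polar Q v.1 b.1.1 = 0 := b.2
        have k4 : polar Q a.1.1 d.1.1 = 0 := had
        have k5 : polar Q b.1.1 d.1.1 = 0 := hbd
        intro i j hij
        fin_cases i <;> fin_cases j <;> simp at hij ⊢ <;>
          first | assumption | (exact (polar_comm _ _ _).trans k1) | (exact (polar_comm _ _ _).trans k2) | (exact (polar_comm _ _ _).trans k3) | (exact (polar_comm _ _ _).trans k4) | (exact (polar_comm _ _ _).trans k5) | (exact (polar_comm _ _ _).trans hab))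
    obtain ⟨x, hx, hxc, -⟩ := perp_value hQ S _ (Submodule.span_le.2 (by
        rintro _ ⟨i, rfl⟩
        fin_cases i
        · exact Submodule.subset_span ⟨0, rfl⟩
        · exact Submodule.subset_span ⟨1, rfl⟩
        · exact Submodule.subset_span ⟨2, rfl⟩
        · exact Submodule.subset_span ⟨3, rfl⟩)) hP
      (by have := finrank_span_le (F := F) ![v.1, a.1.1, b.1.1, d.1.1, d'.1.1]; rw [← hSdef] at this; omega) c
    have hx' := fun i => hx _ (Submodule.subset_span (R := F)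
      (s := Set.range ![v.1, a.1.1, b.1.1, d.1.1, d'.1.1]) ⟨i, rfl⟩)
    let e : NbSet Q v := ⟨⟨x, hxc⟩, hx' 0⟩
    exact (rel_step hQ h2 hc h8 hsq hτ hτc hinj (e := e) (hx' 3) had (hx' 1) hbd (hx' 2)).trans
      (relMap_surj hQ h2 hc h8 hsq hτ hτc hinj v) (rel_inj hQ h2 hc h8 hsq hτ hτc hinj)
      (nb_stab_perfect hQ h2 hc h8 hsq a) (triple_perfect hQ h2 hc h8 hsq (d := e) (hx' 1))
      (rel_step hQ h2 hc h8 hsq hτ hτc hinj (d := e) (e := d') ((polar_comm _ _ _).trans (hx' 4)) (hx' 1)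
        had' (hx' 2) hbd')
  -- the degenerate case
  have h2c : (2 * c) ≠ 0 := mul_ne_zero h2 hc
  set s := polar Q d.1.1 d'.1.1 / (2 * c) with hs
  set s' := polar Q a.1.1 b.1.1 / (2 * c) with hs'
  have hs2 : s ^ 2 = 1 := hsq _ (div_ne_zero hdd h2c)
  have hs'2 : s' ^ 2 = 1 := hsq _ (div_ne_zero hab h2c)
  have hdd2 : polar Q d.1.1 d'.1.1 = s * (2 * c) := by rw [hs, div_mul_cancel₀ _ h2c]
  have hab2 : polar Q a.1.1 b.1.1 = s' * (2 * c) := by rw [hs', div_mul_cancel₀ _ h2c]
  set r := d'.1.1 - s • d.1.1 with hr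
  set r' := b.1.1 - s' • a.1.1 with hr'
  have k1 : polar Q v.1 a.1.1 = 0 := a.2
  have k2 : polar Q v.1 b.1.1 = 0 := b.2
  have k3 : polar Q v.1 d.1.1 = 0 := d.2
  have k4 : polar Q v.1 d'.1.1 = 0 := d'.2
  have k5 : polar Q a.1.1 d.1.1 = 0 := had
  have k6 : polar Q a.1.1 d'.1.1 = 0 := had'
  have k7 : polar Q b.1.1 d.1.1 = 0 := hbd
  have k8 : polar Q b.1.1 d'.1.1 = 0 := hbd'
  have sym : ∀ {x y : V}, polar Q x y = 0 → polar Q y x = 0 := fun h => (polar_comm _ _ _).trans h
  have rv : polar Q v.1 r = 0 := by simp [hr, polar_sub_right, k4, k3]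
  have ra : polar Q a.1.1 r = 0 := by simp [hr, polar_sub_right, k6, k5]
  have rd : polar Q d.1.1 r = 0 := by
    rw [hr, polar_sub_right, polar_smul_right', polar_self', d.1.2, hdd2, sub_self]
  have rQ : Q r = 0 := by
    rw [hr, qmap_sub, qmap_smul, polar_smul_right', polar_comm (⇑Q) d'.1.1 d.1.1, hdd2, d.1.2, d'.1.2]
    linear_combination (-c) * hs2
  have r'v : polar Q v.1 r' = 0 := by simp [hr', polar_sub_right, k2, k1]
  have r'd : polar Q d.1.1 r' = 0 := by simp [hr', polar_sub_right, sym k7, sym k5]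
  have r'a : polar Q a.1.1 r' = 0 := by
    rw [hr', polar_sub_right, polar_smul_right', polar_self', a.1.2, hab2, sub_self]
  have r'Q : Q r' = 0 := by
    rw [hr', qmap_sub, qmap_smul, polar_smul_right', polar_comm (⇑Q) b.1.1 a.1.1, hab2, a.1.2, b.1.2]
    linear_combination (-c) * hs'2
  have r'r : polar Q r r' = 0 := by
    simp [hr, hr', polar_sub_left, polar_sub_right, sym k6, sym k5, sym k7, sym k8]
  have hli : LinearIndependent F ![v.1, a.1.1, b.1.1, d.1.1, d'.1.1] := by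
    refine linearIndependent_iff_card_eq_finrank_span.2 ?_
    rw [Fintype.card_fin]
    show 5 = finrank F S
    have := finrank_span_le (F := F) ![v.1, a.1.1, b.1.1, d.1.1, d'.1.1]
    rw [← hSdef] at this
    omega
  have hcoef : ∀ α β γ δ ε : F, α • v.1 + β • a.1.1 + γ • b.1.1 + δ • d.1.1 + ε • d'.1.1 = 0 →
      γ = 0 ∧ ε = 0 := fun α β γ δ ε h => by
    have := Fintype.linearIndependent_iff.1 hli ![α, β, γ, δ, ε] (by
      simpa [Fin.sum_univ_five] using h)
    exact ⟨this 2, this 4⟩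
  -- hyperbolic partners
  have partner : ∀ {u : V} {k : ℕ} (w : Fin k → V), Q u = 0 → (∀ i, polar Q (w i) u = 0) →
      u ∉ Submodule.span F (Set.range w) → ∃ f, Q f = 0 ∧ polar Q u f = 1 ∧ ∀ i, polar Q (w i) f = 0 := by
    intro u k w hu hw hn
    obtain ⟨φ, hφu, hφS⟩ := Submodule.exists_dual_map_eq_bot_of_notMem hn inferInstance
    obtain ⟨f₀, hf₀⟩ := hQ.exists_repr ((φ u)⁻¹ • φ)
    have fu : polar Q u f₀ = 1 := by
      rw [polar_comm, hf₀, LinearMap.smul_apply, smul_eq_mul, inv_mul_cancel₀ hφu]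
    refine ⟨f₀ - Q f₀ • u, ?_, ?_, fun i => ?_⟩
    · rw [qmap_sub, qmap_smul, polar_smul_right', polar_comm (⇑Q) f₀ u, fu, hu]; ring
    · rw [polar_sub_right, polar_smul_right', polar_self', hu, fu]; ring
    · have h0 : φ (w i) ∈ (Submodule.span F (Set.range w)).map φ :=
        Submodule.mem_map_of_mem (Submodule.subset_span ⟨i, rfl⟩)
      rw [hφS, Submodule.mem_bot] at h0
      rw [polar_sub_right, polar_smul_right', hw i, mul_zero, sub_zero, polar_comm, hf₀,
        LinearMap.smul_apply, h0, smul_zero]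
  obtain ⟨f, fQ, frf, fw⟩ := partner ![v.1, a.1.1, d.1.1, r'] rQ
    (by intro i; fin_cases i; exacts [rv, ra, rd, sym r'r]) (fun hmem => by
      obtain ⟨g, hg⟩ := (Submodule.mem_span_range_iff_exists_fun F).1 hmem
      simp only [Fin.sum_univ_four, Matrix.cons_val_zero, Matrix.cons_val_one, Matrix.cons_val_two,
        Matrix.cons_val_three, Matrix.head_cons, Matrix.tail_cons] at hg
      have := (hcoef (g 0) (g 1 - g 3 * s') (g 3) (g 2 + s) (-1) (by
        rw [hr', hr] at hg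
        linear_combination (norm := module) hg)).2
      exact one_ne_zero (neg_eq_zero.1 this))
  have fv : polar Q v.1 f = 0 := fw 0
  have fa : polar Q a.1.1 f = 0 := fw 1
  have fd : polar Q d.1.1 f = 0 := fw 2
  have fr' : polar Q r' f = 0 := fw 3
  obtain ⟨f', f'Q, frf', fw'⟩ := partner ![v.1, a.1.1, d.1.1, r, f] r'Q
    (by intro i; fin_cases i; exacts [r'v, r'a, r'd, r'r, sym fr']) (fun hmem => by
      obtain ⟨g, hg⟩ := (Submodule.mem_span_range_iff_exists_fun F).1 hmem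
      simp only [Fin.sum_univ_five, Matrix.cons_val_zero, Matrix.cons_val_one, Matrix.cons_val_two,
        Matrix.cons_val_three, Matrix.cons_val_four, Matrix.head_cons, Matrix.tail_cons] at hg
      have h4 : g 4 = 0 := by
        have := congrArg (polar Q r) hg
        simpa [polar_add_right, polar_smul_right', polar_self', sym rv, sym ra, sym rd, rQ, frf, r'r]
          using this
      rw [h4, zero_smul, add_zero] at hg
      have := (hcoef (g 0) (g 1 + s') (-1) (g 2 - g 3 * s) (g 3) (by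
        rw [hr', hr] at hg
        linear_combination (norm := module) hg)).1
      exact one_ne_zero (neg_eq_zero.1 this))
  have f'v : polar Q v.1 f' = 0 := fw' 0
  have f'a : polar Q a.1.1 f' = 0 := fw' 1
  have f'd : polar Q d.1.1 f' = 0 := fw' 2
  have f'r : polar Q r f' = 0 := fw' 3
  have f'f : polar Q f f' = 0 := fw' 4
  -- the transformation moving the multiple of `a` to `b`
  set κ := s' / (2 * c) with hκ
  have hw : polar Q r' (κ • a.1.1) = 0 := by rw [polar_smul_right', sym r'a, mul_zero]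
  set g₀ := sie r' (κ • a.1.1) r'Q hw with hg₀
  have hg₀m : g₀ ∈ commutator (O Q) := sieGroup_eq_commutator hQ (by omega) ▸ sie_mem r'Q hw
  set g : commutator (O Q) := ⟨g₀, hg₀m⟩ with hgdef
  have gfix : ∀ x : V, polar Q r' x = 0 → polar Q a.1.1 x = 0 → ((g : O Q) : V ≃ₗ[F] V) x = x :=
    fun x h1 h3 => sie_fix' r'Q hw h1 (by rw [polar_smul_left', h3, mul_zero])
  have gv : g • v = v := Subtype.ext (gfix _ (sym r'v) (sym k1))
  have gd : g • d.1 = d.1 := Subtype.ext (gfix _ (sym r'd) k5)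
  have gd' : g • d'.1 = d'.1 := Subtype.ext (gfix _ (by
    rw [show d'.1.1 = r + s • d.1.1 by rw [hr, sub_add_cancel], polar_add_right, polar_smul_right',
      sym r'r, sym r'd]; ring) k6)
  -- the point `s' • a`
  let a₀ : Sph Q c := ⟨s' • a.1.1, by rw [qmap_smul, hs'2, a.1.2, one_mul]⟩
  let b₀ : NbSet Q v := ⟨a₀, show polar Q v.1 (s' • a.1.1) = 0 by rw [polar_smul_right', k1, mul_zero]⟩
  have gb : g • b₀.1 = b.1 := by
    refine Subtype.ext ?_
    show (g₀ : V ≃ₗ[F] V) (s' • a.1.1) = b.1.1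
    rw [hg₀, sie_app, polar_smul_right', polar_smul_right', sym r'a, mul_zero, mul_zero, zero_smul,
      sub_zero, sub_zero, polar_smul_left', polar_self', a.1.2,
      show s' * (κ * (2 * c)) = 1 by rw [hκ, div_mul_cancel₀ _ h2c, ← pow_two, hs'2], one_smul, hr',
      add_sub_cancel]
  -- the element inverting it
  set h₀ : O Q := rO Q v.1 * rO Q d.1.1 * (rO Q (r + f) * rO Q (r - f)) *
    (rO Q (r' + f') * rO Q (r' - f')) with hh₀
  have q1 : Q (r + f) = 1 := by rw [map_add_polar, rQ, fQ, frf]; ring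
  have q2 : Q (r - f) = -1 := by rw [qmap_sub, rQ, fQ, frf]; ring
  have q3 : Q (r' + f') = 1 := by rw [map_add_polar, r'Q, f'Q, frf']; ring
  have q4 : Q (r' - f') = -1 := by rw [qmap_sub, r'Q, f'Q, frf']; ring
  have n1 : Q (r + f) ≠ 0 := by rw [q1]; exact one_ne_zero
  have n2 : Q (r - f) ≠ 0 := by rw [q2]; exact neg_ne_zero.2 one_ne_zero
  have n3 : Q (r' + f') ≠ 0 := by rw [q3]; exact one_ne_zero
  have n4 : Q (r' - f') ≠ 0 := by rw [q4]; exact neg_ne_zero.2 one_ne_zero
  have nv : Q v.1 ≠ 0 := by rw [v.2]; exact hc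
  have nd : Q d.1.1 ≠ 0 := by rw [d.1.2]; exact hc
  have hh₀m : h₀ ∈ commutator (O Q) := by
    rw [mem_commutator_iff hQ h2, hh₀]
    simp only [map_mul, detSign_rO hQ h2 nv, detSign_rO hQ h2 nd, detSign_rO hQ h2 n1,
      detSign_rO hQ h2 n2, detSign_rO hQ h2 n3, detSign_rO hQ h2 n4, spinor_rO hQ h2 nv,
      spinor_rO hQ h2 nd, spinor_rO hQ h2 n1, spinor_rO hQ h2 n2, spinor_rO hQ h2 n3,
      spinor_rO hQ h2 n4, v.2, d.1.2, q1, q2, q3, q4, Int.units_mul_self, mul_one]
    exact ⟨trivial, by rw [one_mul, Int.units_mul_self]⟩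
  have pairFix : ∀ {p q x : V}, polar Q p x = 0 → polar Q q x = 0 →
      ((rO Q (p + q) * rO Q (p - q) : O Q) : V ≃ₗ[F] V) x = x := by
    intro p q x h1 h3
    rw [Subgroup.coe_mul, Orthogonal.mul_app,
      rO_fix (show polar Q (p - q) x = 0 by rw [polar_sub_left, h1, h3, sub_zero]),
      rO_fix (show polar Q (p + q) x = 0 by rw [polar_add_left, h1, h3, add_zero])]
  have pairNeg : ∀ {p q : V}, Q p = 0 → Q q = 0 → polar Q p q = 1 →
      ((rO Q (p + q) * rO Q (p - q) : O Q) : V ≃ₗ[F] V) p = -p := by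
    intro p q hp hq hpq
    have h1 : (rO Q (p - q) : V ≃ₗ[F] V) p = q := by
      rw [rO_app, qmap_sub, polar_sub_left, polar_self', hp, hq, polar_comm (⇑Q) q p, hpq]
      match_scalars <;> field_simp <;> ring
    rw [Subgroup.coe_mul, Orthogonal.mul_app, h1, rO_app, map_add_polar, polar_add_left, polar_self',
      hp, hq, hpq]
    match_scalars <;> field_simp <;> ring
  have happ : ∀ x, (h₀ : V ≃ₗ[F] V) x = (rO Q v.1 : V ≃ₗ[F] V) ((rO Q d.1.1 : V ≃ₗ[F] V)
      (((rO Q (r + f) * rO Q (r - f) : O Q) : V ≃ₗ[F] V)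
        (((rO Q (r' + f') * rO Q (r' - f') : O Q) : V ≃ₗ[F] V) x))) := fun x => rfl
  have hv' : (h₀ : V ≃ₗ[F] V) v.1 = -v.1 := by
    rw [happ, pairFix (sym r'v) (sym f'v), pairFix (sym rv) (sym fv), rO_fix (sym k3), rO_self nv]
  have hd' : (h₀ : V ≃ₗ[F] V) d.1.1 = -d.1.1 := by
    rw [happ, pairFix (sym r'd) (sym f'd), pairFix (sym rd) (sym fd), rO_self nd, map_neg, rO_fix k3]
  have ha' : (h₀ : V ≃ₗ[F] V) a.1.1 = a.1.1 := by
    rw [happ, pairFix (sym r'a) (sym f'a), pairFix (sym ra) (sym fa), rO_fix (sym k5), rO_fix k1]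
  have hr1 : (h₀ : V ≃ₗ[F] V) r = -r := by
    rw [happ, pairFix (sym r'r) (sym f'r), pairNeg rQ fQ frf, map_neg, rO_fix rd, map_neg, rO_fix rv]
  have hr2 : (h₀ : V ≃ₗ[F] V) r' = -r' := by
    rw [happ, pairNeg r'Q f'Q frf', map_neg, pairFix r'r (sym fr'), map_neg, rO_fix r'd, map_neg,
      rO_fix r'v]
  have hd'' : (h₀ : V ≃ₗ[F] V) d'.1.1 = -d'.1.1 := by
    rw [show d'.1.1 = r + s • d.1.1 by rw [hr, sub_add_cancel], map_add, map_smul, hr1, hd']
    module
  set hh : commutator (O Q) := ⟨h₀, hh₀m⟩ with hhdef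
  have hconj : hh * g * hh⁻¹ = g⁻¹ := by
    refine Subtype.ext ?_
    show h₀ * g₀ * h₀⁻¹ = g₀⁻¹
    rw [hg₀, sie_conj, sie_inv]
    refine O.ext_app fun x => ?_
    rw [sie_app, sie_app, hr2, map_smul, ha']
    simp only [polar_neg_left, QuadraticMap.map_neg, neg_smul, smul_neg, qmap_smul, polar_smul_left']
    module
  have g3 : g * g * g = 1 := by
    refine Subtype.ext ?_
    show g₀ * g₀ * g₀ = 1
    rw [hg₀, sie_mul _ hw hw, sie_mul]
    refine O.ext_app fun x => ?_
    have h3 : (3 : F) = 0 := by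
      have := hsq 2 h2
      linear_combination this
    rw [sie_app, show κ • a.1.1 + κ • a.1.1 + κ • a.1.1 = (0 : V) by
      rw [show κ • a.1.1 + κ • a.1.1 + κ • a.1.1 = (3 * κ) • a.1.1 by module, h3, zero_mul, zero_smul]]
    simp [polar_zero_left]
  -- the two lifts of `g` agree
  have T := odd_geometry hQ h2 hc (show 7 ≤ finrank F V by omega)
  have hPv : ∀ x : NbSet Q v, ⁅MulAction.stabilizer (commutator (O Q)) (v, x.1),
      MulAction.stabilizer (commutator (O Q)) (v, x.1)⁆ =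
      MulAction.stabilizer (commutator (O Q)) (v, x.1) := fun x => by
    rw [stab_prod]; exact T.pair_perfect v x.1 x.2
  obtain ⟨x, hx, hxg⟩ := stabX_onto hτ (hPv d) (g := g) (Prod.ext gv gd)
  obtain ⟨y, hy, hyg⟩ := stabX_onto hτ (hPv d') (g := g) (Prod.ext gv gd')
  obtain ⟨k, hk⟩ := hτ hh
  have hmirror : ∀ (p : NbSet Q v), hh • p.1 = (⟨-p.1.1, by rw [QuadraticMap.map_neg, p.1.2]⟩ : Sph Q c) →
      ∀ z ∈ stabX τ (v, p.1), τ z = g → k * z * k⁻¹ = z⁻¹ ∧ z * z * z = 1 := by
    intro p hp z hz hzg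
    have h1 := stabX_conj hz k
    have heq : stabX τ (τ k • (v, p.1)) = stabX τ (v, p.1) := by
      refine stabX_congr ?_
      rw [hk, Prod.smul_mk, stab_prod, stab_prod]
      ext w
      simp only [Subgroup.mem_inf, mem_stab]
      rw [show (hh • v).1 = -v.1 from hv', show (hh • p.1).1 = -p.1.1 by rw [hp], map_neg, map_neg,
        neg_inj, neg_inj]
    rw [heq] at h1
    constructor
    · refine mul_inv_eq_one.1 (hinj v p.1 p.2 _ (mul_mem h1 (inv_mem (inv_mem hz))) ?_)
      rw [map_mul, map_mul, map_mul, map_inv, map_inv, map_inv, hk, hzg, hconj, inv_inv, inv_mul_cancel]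
    · exact hinj v p.1 p.2 _ (mul_mem (mul_mem hz hz) hz) (by rw [map_mul, map_mul, hzg, g3])
  obtain ⟨hx1, hx3⟩ := hmirror d (Subtype.ext hd') x hx hxg
  obtain ⟨hy1, hy3⟩ := hmirror d' (Subtype.ext hd'') y hy hyg
  have hzc : y⁻¹ * x ∈ Subgroup.center Δ := hτc (by
    rw [MonoidHom.mem_ker, map_mul, map_inv, hxg, hyg, inv_mul_cancel])
  have hxy : x = y := by
    set z := y⁻¹ * x with hz
    have hcomm : ∀ w, w * z = z * w := Subgroup.mem_center_iff.1 hzc
    have e1 : z = y * x⁻¹ := by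
      have : k * z * k⁻¹ = z := by rw [hcomm, mul_inv_cancel_right]
      calc z = k * z * k⁻¹ := this.symm
        _ = (k * y * k⁻¹)⁻¹ * (k * x * k⁻¹) := by rw [hz]; group
        _ = y * x⁻¹ := by rw [hx1, hy1, inv_inv]
    have hxz : x = y * z := by rw [hz, mul_inv_cancel_left]
    have hc' : Commute y z := hcomm y
    have e2 : z * z = 1 := by
      refine mul_eq_one_iff_eq_inv.2 ?_
      conv_lhs => rw [e1, hxz, mul_inv_rev, ← mul_assoc, hc'.inv_right.eq, mul_inv_cancel_right]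
    have e3 : z * z * z = 1 := by
      have h : (y * z) ^ 3 = y ^ 3 * z ^ 3 := hc'.mul_pow 3
      rw [← hxz, pow_succ x, pow_succ y, pow_succ z, pow_two, pow_two, pow_two, hx3, hy3, one_mul] at h
      exact h.symm
    rw [e2, one_mul] at e3
    exact (inv_mul_eq_one.1 e3).symm
  -- compose with the move to the multiple of `a`
  have hS' : finrank F (Submodule.span F (Set.range ![v.1, a.1.1, b₀.1.1, d.1.1, d'.1.1])) ≤ 4 := by
    refine le_trans (Submodule.finrank_mono ?_) (finrank_span_le ![v.1, a.1.1, d.1.1, d'.1.1])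
    rw [Submodule.span_le]
    rintro _ ⟨i, rfl⟩
    fin_cases i
    · exact Submodule.subset_span ⟨0, rfl⟩
    · exact Submodule.subset_span ⟨1, rfl⟩
    · exact Submodule.smul_mem _ _ (Submodule.subset_span ⟨1, rfl⟩)
    · exact Submodule.subset_span ⟨2, rfl⟩
    · exact Submodule.subset_span ⟨3, rfl⟩
  have hbd₀ : ∀ p : NbSet Q v, Orth Q c a.1 p.1 → Orth Q c b₀.1 p.1 := fun p hp => by
    show polar Q (s' • a.1.1) p.1.1 = 0
    rw [polar_smul_left', show polar Q a.1.1 p.1.1 = 0 from hp, mul_zero]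
  obtain ⟨x₁, hx₁, y₁, hy₁, hx₁a, hy₁a, hyx⟩ :=
    rel_via hQ h2 hc h8 hsq hτ hτc hinj had (hbd₀ d had) had' (hbd₀ d' had') hS'
  rw [← map_stabX_rel τ (map_stab_nb v d)] at hx
  obtain ⟨x', hx', hxx⟩ := hx
  rw [← map_stabX_rel τ (map_stab_nb v d')] at hy
  obtain ⟨y', hy', hyy⟩ := hy
  have hxy' : x' = y' := Subtype.ext (hxx.trans (hxy.trans hyy.symm))
  have hx'b : relMap τ H x' • b₀ = b := Subtype.ext (by
    rw [nb_smul]
    show τ (x' : Δ) • b₀.1 = b.1
    rw [show (x' : Δ) = x from hxx, hxg, gb])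
  refine ⟨x' * x₁, mul_mem hx' hx₁, y' * y₁, mul_mem hy' hy₁, ?_, ?_, ?_⟩
  · rw [map_mul, mul_smul, hx₁a, hx'b]
  · rw [map_mul, mul_smul, hy₁a, ← hxy', hx'b]
  · rwa [← hxy', show (x' * y₁)⁻¹ * (x' * x₁) = y₁⁻¹ * x₁ by group]

/-- The sections at single points are faithful. -/
theorem point_inj (v : Sph Q c) {x : Δ} (hx : x ∈ stabX τ v) (h1 : τ x = 1) : x = 1 := by
  have hsym : ∀ {p q : Sph Q c}, Orth Q c p q → Orth Q c q p := fun h => (polar_comm _ _ _).trans h
  obtain ⟨e, he, hec, -⟩ := exists_orth_value hQ ![v.1] (Submodule.span F {v.1})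
    (Submodule.span_mono (by simp)) (nondeg_span_one h2 (by rw [v.2]; exact hc)).1
    (by rw [(nondeg_span_one h2 (show Q v.1 ≠ 0 by rw [v.2]; exact hc)).2]; omega) c
  let o : NbSet Q v := ⟨⟨e, hec⟩, he 0⟩
  refine inj_of_rel hτc (T := NbSet Q v) (R := fun p q => Orth Q c p.1 q.1) ?_ o hx h1
  refine
    { surj := relMap_surj hQ h2 hc h8 hsq hτ hτc hinj v
      symm := fun p q h => hsym h
      inv := fun g p q h => (odd_geometry hQ h2 hc (by omega)).inv (g : commutator (O Q)) _ _ h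
      inj := rel_inj hQ h2 hc h8 hsq hτ hτc hinj
      onto := fun p g hg => stabX_onto (relMap_surj hQ h2 hc h8 hsq hτ hτc hinj v)
        (nb_stab_perfect hQ h2 hc h8 hsq p) hg
      agree := fun p d h x hx y hy => stabX_agree (relMap_surj hQ h2 hc h8 hsq hτ hτc hinj v)
        (rel_inj hQ h2 hc h8 hsq hτ hτc hinj) (triple_perfect hQ h2 hc h8 hsq h) hx hy
      nb := fun p q r => ?_
      move := fun p q d d' h1 h2' h3 h4 => rel_move hQ h2 hc h8 hsq hτ hτc hinj h1 h2' h3 h4 }
  obtain ⟨hn, hf, -⟩ := nondeg_span_two (Q := Q) (a := v.1) (b := p.1.1) (by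
    rw [show polar Q v.1 p.1.1 = 0 from p.2, v.2, p.1.2]; simp [h2, hc])
  obtain ⟨y, hy, hyc, -⟩ := exists_orth_value hQ ![v.1, p.1.1, q.1.1, r.1.1]
    (Submodule.span F {v.1, p.1.1}) (Submodule.span_mono (by rintro _ (rfl | rfl) <;> simp)) hn
    (by omega) c
  exact ⟨⟨⟨y, hyc⟩, hy 0⟩, hy 1, hy 2, hy 3⟩

omit hτ hτc hinj

/-- Minus type, dimension eight, three elements. -/
theorem multLE_three_eight {v o : Sph Q c} (hvo : Orth Q c v o) {e f : Fin 3 → V} (hef : IsFrame Q e f)
    (hperp : perp Q (Submodule.span F {v.1, o.1}) = hspan (F := F) e f) :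
    MultLE (commutator (O Q)) 2 := by
  intro Γ _ _ σ hσ
  have T := odd_geometry hQ h2 hc (show 7 ≤ finrank F V by omega)
  obtain ⟨Δ, _, _, τ, hτ, hinj₀, hcard⟩ := exists_inj_quotient hσ (v, o)
  have hinj : ∀ p q : Sph Q c, Orth Q c p q → ∀ x ∈ stabX τ (p, q), τ x = 1 → x = 1 := by
    intro p q hpq
    have hq : ∀ x : Sph Q c, Q x.1 ≠ 0 := fun x => by rw [x.2]; exact hc
    obtain ⟨hn, hf, -⟩ := nondeg_span_two (Q := Q) (a := p.1) (b := q.1) (by
      rw [show polar Q p.1 q.1 = 0 from hpq, p.2, q.2]; simp [h2, hc])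
    obtain ⟨g, hg⟩ := exists_om_family hQ (Or.inr (by omega)) (v := ![v.1, o.1]) (w := ![p.1, q.1])
      (li_orth (Q := Q) h2 _ (by intro i; fin_cases i <;> simp [hq]) (by
        intro i j hij
        fin_cases i <;> fin_cases j <;> simp at hij ⊢ <;>
          first | exact hvo | (exact (polar_comm _ _ _).trans hvo)))
      (li_orth (Q := Q) h2 _ (by intro i; fin_cases i <;> simp [hq]) (by
        intro i j hij
        fin_cases i <;> fin_cases j <;> simp at hij ⊢ <;>
          first | exact hpq | (exact (polar_comm _ _ _).trans hpq)))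
      (by intro i; fin_cases i <;> simp [v.2, o.2, p.2, q.2])
      (by
        intro i j hij
        fin_cases i <;> fin_cases j <;> simp at hij ⊢ <;>
          simp [show polar Q v.1 o.1 = 0 from hvo, show polar Q p.1 q.1 = 0 from hpq,
            polar_comm (⇑Q) o.1 v.1, polar_comm (⇑Q) q.1 p.1])
      (Submodule.span F {p.1, q.1}) (Submodule.span_mono (by rintro _ (rfl | rfl) <;> simp)) hn
      (by omega)
    have := hinj₀ g
    rwa [show g • (v, o) = (p, q) from Prod.ext (Subtype.ext (hg 0)) (Subtype.ext (hg 1))] at this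
  have hinj1 : ∀ a : Sph Q c, ∀ x ∈ stabX τ a, τ x = 1 → x = 1 := fun a x hx h1 =>
    point_inj hQ h2 hc h8 hsq hτ.1 hτ.2.1 hinj a hx h1
  have L : Sheaf τ (Orth Q c) :=
    { surj := hτ.1, symm := T.symm, inv := T.inv, inj := hinj1, nb := T.nb
      onto := fun a g hg => stabX_onto hτ.1 (T.stab_perfect a) hg
      agree := fun a d h x hx y hy => stabX_agree hτ.1 hinj1 (T.pair_perfect a d h) hx hy
      move := fun a b d d' h1 h2' h3 h4 =>
        sameMove_all hQ h2 hc (by omega) hτ.1 hinj1 (Or.inr (by omega)) h1 h2' h3 h4 }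
  rw [hcard, L.ker_eq_bot v hτ, Subgroup.card_bot, mul_one]
  have hst : MulAction.stabilizer (commutator (O Q)) (v, o) =
      omFix Q (hspan (F := F) e f) := by
    rw [stab_prod, pair_eq_omFix hQ v o, hperp]
  refine card_inf_le (by rw [stab_prod]; exact T.pair_perfect v o hvo) (MultLE.congr ?_
    (multLE_hspan_three hQ h2 hef)) hσ
  exact (MonoidHom.ofInjective (omHom_injective hQ hef.nondeg_hspan)).trans
    (MulEquiv.subgroupCongr ((omHom_range hQ h2 hef.nondeg_hspan).trans hst.symm))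

end Cfsg.Agent.H97.Omega
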