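/-
The multiplier of the simple orthogonal groups in odd characteristic.
-/
import Cfsg.Agent.H97.Omega.ThreeBase
import Cfsg.Agent.H97.Omega.Spin
import Cfsg.Agent.H97.Omega.EvenMain
import Cfsg.Agent.Orthogonal.Plane
import Mathlib.GroupTheory.SpecificGroups.KleinFour

set_option autoImplicit false
set_option linter.unusedSectionVars false
set_option maxHeartbeats 1000000

namespace Cfsg.Agent.H97.Omega

open QuadraticMap Module
open Cfsg.Agent.Orthogonal Cfsg.Agent.Orthogonal.IsFrame

universe u v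

variable {F : Type u} [Field F] [Finite F]

theorem sq_eq_one_of_card_three (h3 : Nat.card F = 3) (x : F) (hx : x ≠ 0) : x ^ 2 = 1 := by
  have := Fintype.ofFinite F
  rw [Nat.card_eq_fintype_card] at h3
  have := FiniteField.pow_card_sub_one_eq_one x hx
  rwa [h3] at this

/-- Three elements, dimension eight, minus type. -/
theorem multLE_eight_minus {V : Type v} [AddCommGroup V] [Module F V] [FiniteDimensional F V]
    {Q : QuadraticForm F V} (hQ : Nondeg Q) (h2 : (2 : F) ≠ 0) (h3 : Nat.card F = 3)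
    (h8 : finrank F V = 8) {e f : Fin 3 → V} (hef : IsFrame Q e f)
    (hA : Aniso Q (IsFrame.kernel Q e f)) : MultLE (commutator (O Q)) 2 := by
  set K := IsFrame.kernel Q e f with hK
  have hK2 : finrank F K = 2 := by have := hef.finrank_kernel hQ; rw [← hK] at this; omega
  have hKn : Nondeg (restr Q K) := hef.nondeg_kernel hQ
  have : Nontrivial K := Module.nontrivial_of_finrank_pos (R := F) (by omega)
  obtain ⟨v, hv0⟩ := exists_ne (0 : K)
  obtain ⟨o, ho0, ho⟩ := hKn.exists_perp_vec hK2 hv0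
  rw [polar_restr] at ho
  have hv : Q (v : V) ≠ 0 := fun h => hv0 (Subtype.ext (hA _ v.2 h))
  have hsq := sq_eq_one_of_card_three h3
  have hov : Q (o : V) = Q (v : V) := by
    have ho' : Q (o : V) ≠ 0 := fun h => ho0 (Subtype.ext (hA _ o.2 h))
    rcases sq_eq_sq_iff_eq_or_eq_neg.1 ((hsq _ ho').trans (hsq _ hv).symm) with h | h
    · exact h
    · exfalso
      have h0 := hA _ (K.add_mem v.2 o.2) (by rw [map_add_polar, ho, h]; ring)
      have h1 := congrArg (polar Q (v : V)) h0
      rw [polar_add_right, polar_self', ho, add_zero, polar_zero_right] at h1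
      exact mul_ne_zero h2 hv h1
  refine multLE_three_eight hQ h2 hv h8 hsq (v := ⟨v, rfl⟩) (o := ⟨o, hov⟩) ho hef ?_
  refine (Submodule.eq_of_le_of_finrank_eq ?_ ?_).symm
  · intro x hx
    rw [mem_perp_span_pair]
    exact ⟨(polar_comm _ _ _).trans (v.2 x hx), (polar_comm _ _ _).trans (o.2 x hx)⟩
  · obtain ⟨-, hf, -⟩ := nondeg_span_two (Q := Q) (a := (v : V)) (b := (o : V)) (by
      rw [ho, hov]; simp [h2, hv])
    have := hQ.finrank_add_perp (Submodule.span F {(v : V), (o : V)})
    have := hef.finrank_hspan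
    show _ = finrank F (perp Q (Submodule.span F {(v : V), (o : V)}))
    omega

/-- Three elements, dimension nine. -/
theorem multLE_nine {V : Type v} [AddCommGroup V] [Module F V] [FiniteDimensional F V]
    {Q : QuadraticForm F V} (hQ : Nondeg Q) (h2 : (2 : F) ≠ 0) (h3 : Nat.card F = 3)
    (h9 : finrank F V = 9) : MultLE (commutator (O Q)) 2 := by
  classical
  obtain ⟨e, f, hef⟩ := exists_frame_three hQ (by omega)
  set K := IsFrame.kernel Q e f with hK
  have hK3 : finrank F K = 3 := by have := hef.finrank_kernel hQ; rw [← hK] at this; omega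
  have hKn : Nondeg (restr Q K) := hef.nondeg_kernel hQ
  obtain ⟨u, hu0, hu⟩ := hKn.exists_singular (by omega)
  obtain ⟨f', hf', huf⟩ := hKn.exists_partner hu0 hu
  have hd := hKn.finrank_hyperbolic_perp hu hf' huf
  have : Nontrivial (perp (restr Q K) (Submodule.span F {u, f'})) :=
    Module.nontrivial_of_finrank_pos (R := F) (by omega)
  obtain ⟨w', hw'0⟩ := exists_ne (0 : perp (restr Q K) (Submodule.span F {u, f'}))
  obtain ⟨⟨w, hwp⟩, hw⟩ := exists_anisotropic (hKn.nondeg_hyperbolic_perp hu hf' huf) hw'0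
  obtain ⟨hwu, hwf⟩ := (mem_perp_span_pair _).1 hwp
  have hδ : Q (w : V) ≠ 0 := hw
  set δ := Q (w : V) with hδd
  rw [polar_restr] at huf hwu hwf
  have huQ : Q (u : V) = 0 := hu
  have hfQ : Q (f' : V) = 0 := hf'
  set a : V := (u : V) - δ • (f' : V) with ha
  have haQ : Q a = -δ := by rw [ha, qmap_sub, qmap_smul, polar_smul_right', huQ, hfQ, huf]; ring
  have ha0 : Q a ≠ 0 := by rw [haQ]; exact neg_ne_zero.2 hδ
  have haK : a ∈ K := K.sub_mem u.2 (K.smul_mem _ f'.2)
  set W := perp Q (Submodule.span F {a}) with hW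
  have hWd : finrank F W = 8 := by
    have := hQ.finrank_add_perp (Submodule.span F {a})
    have := (nondeg_span_one h2 ha0).2
    rw [hW]; omega
  have hmem : ∀ x ∈ hspan (F := F) e f, x ∈ W := fun x hx => by
    rw [hW, mem_perp_span_singleton, polar_comm]; exact haK x hx
  let e' : Fin 3 → W := fun i => ⟨e i, hmem _ (mem_hspan_l e f i)⟩
  let f'' : Fin 3 → W := fun i => ⟨f i, hmem _ (mem_hspan_r e f i)⟩
  have hef' : IsFrame (restr Q W) e' f'' :=
    ⟨fun i => hef.qe i, fun i => hef.qf i, fun i j => by rw [polar_restr]; exact hef.ef i j,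
      fun i j => by rw [polar_restr]; exact hef.ee i j, fun i j => by rw [polar_restr]; exact hef.ff i j⟩
  have hli : LinearIndependent F ![u, f', w] := by
    rw [Fintype.linearIndependent_iff]
    intro g hg
    simp only [Fin.sum_univ_three, Matrix.cons_val_zero, Matrix.cons_val_one, Matrix.cons_val_two,
      Matrix.head_cons, Matrix.tail_cons] at hg
    have hg' := congrArg Subtype.val hg
    simp only [Submodule.coe_add, Submodule.coe_smul, Submodule.coe_zero] at hg'
    have e1 := congrArg (polar Q (u : V)) hg'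
    have e2 := congrArg (polar Q (f' : V)) hg'
    have e3 := congrArg (polar Q (w : V)) hg'
    simp only [polar_add_right, polar_smul_right', polar_self', huQ, hfQ, huf, hwu, hwf,
      polar_comm (⇑Q) (f' : V) (u : V), polar_comm (⇑Q) (w : V) (u : V),
      polar_comm (⇑Q) (w : V) (f' : V), polar_zero_right, mul_zero, mul_one, add_zero, zero_add] at e1 e2 e3
    intro i; fin_cases i
    exacts [e2, e1, (mul_eq_zero.1 e3).resolve_right (mul_ne_zero h2 hδ)]
  have hspanK := hli.span_eq_top_of_card_eq_finrank' (by rw [Fintype.card_fin, hK3])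
  have hA : Aniso (restr Q W) (IsFrame.kernel (restr Q W) e' f'') := by
    rintro ⟨x, hxW⟩ hx hxQ
    have hxK : x ∈ K := by
      rw [hK, IsFrame.mem_kernel]
      have h := IsFrame.mem_kernel.1 hx
      simp only [polar_restr] at h
      exact h
    obtain ⟨g, hg⟩ := (Submodule.mem_span_range_iff_exists_fun F).1
      (hspanK ▸ Submodule.mem_top : (⟨x, hxK⟩ : K) ∈ Submodule.span F (Set.range ![u, f', w]))
    have hx' : x = g 0 • (u : V) + g 1 • (f' : V) + g 2 • (w : V) := by
      have := congrArg Subtype.val hg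
      simp [Fin.sum_univ_three] at this
      exact this.symm
    have hβ : g 1 = δ * g 0 := by
      have h := (mem_perp_span_singleton Q).1 hxW
      rw [hx', ha] at h
      simp only [polar_sub_left, polar_smul_left', polar_add_right, polar_smul_right', polar_self',
        huQ, hfQ, huf, hwu, hwf, polar_comm (⇑Q) (f' : V) (u : V), polar_comm (⇑Q) (w : V) (u : V),
        polar_comm (⇑Q) (w : V) (f' : V)] at h
      linear_combination h
    have hQx : δ * (g 0 ^ 2 + g 2 ^ 2) = 0 := by
      have h : Q x = 0 := hxQ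
      rw [hx', map_add_polar, map_add_polar, polar_add_left, qmap_smul, qmap_smul, qmap_smul, huQ, hfQ,
        polar_smul_left', polar_smul_left', polar_smul_left', polar_smul_right', polar_smul_right',
        polar_smul_right', huf, hwu, hwf, hβ, ← hδd] at h
      linear_combination h
    have hs := (mul_eq_zero.1 hQx).resolve_left hδ
    have h12 : (1 : F) + 1 ≠ 0 := by rw [one_add_one_eq_two]; exact h2
    have hsq := sq_eq_one_of_card_three h3
    have h0 : g 0 = 0 ∧ g 2 = 0 := by
      by_cases h0 : g 0 = 0 <;> by_cases h2' : g 2 = 0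
      · exact ⟨h0, h2'⟩
      · rw [h0, hsq _ h2'] at hs; simp at hs
      · rw [h2', hsq _ h0] at hs; simp at hs
      · rw [hsq _ h0, hsq _ h2'] at hs; exact absurd hs h12
    refine Subtype.ext ?_
    show x = 0
    rw [hx', hβ, h0.1, h0.2, mul_zero, zero_smul, zero_smul, zero_smul, add_zero, add_zero]
  exact multLE_odd_step hQ h2 ha0 (by omega) (Or.inr (by omega)) a rfl
    (multLE_eight_minus (hQ.nondeg_perp (nondeg_span_one h2 ha0).1) h2 h3 hWd hef' hA)

/-- Three elements: the bound from dimension nine on. -/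
theorem multLE_three (h2 : (2 : F) ≠ 0) (h3 : Nat.card F = 3) :
    ∀ (n : ℕ) {V : Type v} [AddCommGroup V] [Module F V] [FiniteDimensional F V]
      {Q : QuadraticForm F V}, Nondeg Q → finrank F V = n → 9 ≤ n →
      MultLE (commutator (O Q)) 2 := by
  intro n
  induction n with
  | zero => intro V _ _ _ Q _ _ h; omega
  | succ n ih =>
    intro V _ _ _ Q hQ hn h9
    rcases Nat.eq_or_lt_of_le h9 with h | h
    · exact multLE_nine hQ h2 h3 (by omega)
    · obtain ⟨a, ha⟩ := hQ.exists_value (show 2 ≤ finrank F V by omega) 1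
      have hQa : Q a ≠ 0 := by rw [ha]; exact one_ne_zero
      obtain ⟨hn1, hf1⟩ := nondeg_span_one h2 hQa
      refine multLE_odd_step hQ h2 one_ne_zero (by omega) (Or.inr (by omega)) a ha
        (ih (hQ.nondeg_perp hn1) ?_ (by omega))
      have := hQ.finrank_add_perp (Submodule.span F {a})
      omega

/-- The bound two in odd characteristic. -/
theorem multLE_odd {V : Type v} [AddCommGroup V] [Module F V] [FiniteDimensional F V]
    {Q : QuadraticForm F V} (hQ : Nondeg Q) (h2 : (2 : F) ≠ 0) (h7 : 7 ≤ finrank F V)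
    (h : 5 ≤ Nat.card F ∨ 9 ≤ finrank F V) : MultLE (commutator (O Q)) 2 := by
  rcases Nat.lt_or_ge (Nat.card F) 5 with h5 | h5
  · obtain ⟨k, hk⟩ := odd_natCard_of_two_ne_zero (F := F) h2
    have := Finite.one_lt_card (α := F)
    exact multLE_three h2 (by omega) _ hQ rfl (h.resolve_left (by omega))
  · exact multLE_big h2 h5 _ hQ rfl h7

variable {V : Type v} [AddCommGroup V] [Module F V] [FiniteDimensional F V] {Q : QuadraticForm F V}

/-- An orthogonal family of norm one as long as there is room. -/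
theorem exists_orth_ones (hQ : Nondeg Q) (h2 : (2 : F) ≠ 0) :
    ∀ k : ℕ, k + 1 ≤ finrank F V → ∃ w : Fin k → V, (∀ i, Q (w i) = 1) ∧
      ∀ i j, i ≠ j → polar Q (w i) (w j) = 0 := by
  intro k
  induction k with
  | zero => exact fun _ => ⟨Fin.elim0, fun i => i.elim0, fun i => i.elim0⟩
  | succ k ih =>
    intro hk
    obtain ⟨w, hw, ho⟩ := ih (by omega)
    obtain ⟨hn, hf⟩ := nondeg_span_orth h2 w (fun i => by rw [hw]; exact one_ne_zero) ho
    obtain ⟨x, hx, hxc, -⟩ := exists_orth_value hQ w _ le_rfl hn (by omega) 1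
    refine ⟨Fin.cons x w, fun i => ?_, fun i j hij => ?_⟩
    · refine Fin.cases ?_ ?_ i
      · simpa using hxc
      · intro i; simpa using hw i
    · revert hij
      refine Fin.cases ?_ (fun i => ?_) i <;> refine Fin.cases ?_ (fun j => ?_) j <;> intro hij
      · exact absurd rfl hij
      · simpa using (polar_comm _ _ _).trans (hx j)
      · simpa using hx i
      · simpa using ho i j fun h => hij (by rw [h])

/-- The product of the reflections of an orthogonal family. -/
theorem prod_refl_orth (Q : QuadraticForm F V) : ∀ {k : ℕ} (w : Fin k → V), (∀ i, Q (w i) ≠ 0) →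
    (∀ i j, i ≠ j → polar Q (w i) (w j) = 0) →
    (∀ x, (∀ i, polar Q (w i) x = 0) →
      (((List.ofFn w).map (rO Q)).prod : V ≃ₗ[F] V) x = x) ∧
    ∀ i, (((List.ofFn w).map (rO Q)).prod : V ≃ₗ[F] V) (w i) = -(w i) := by
  intro k
  induction k with
  | zero => exact fun w _ _ => ⟨fun x _ => by simp, fun i => i.elim0⟩
  | succ k ih =>
    intro w hq ho
    obtain ⟨h1, h2⟩ := ih (fun i => w i.succ) (fun i => hq _)
      (fun i j h => ho _ _ fun he => h (Fin.succ_injective _ he))
    have key : ∀ x, ((((List.ofFn w).map (rO Q)).prod : O Q) : V ≃ₗ[F] V) x =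
        (rO Q (w 0) : V ≃ₗ[F] V)
          ((((List.ofFn fun i => w i.succ).map (rO Q)).prod : V ≃ₗ[F] V) x) := fun x => by
      rw [List.ofFn_succ, List.map_cons, List.prod_cons]; rfl
    refine ⟨fun x hx => ?_, fun i => ?_⟩
    · rw [key, h1 x fun i => hx _, rO_fix (hx 0)]
    · rw [key]
      refine Fin.cases ?_ (fun i => ?_) i
      · rw [h1 _ fun i => ho _ _ (Fin.succ_ne_zero i), rO_self (hq 0)]
      · rw [h2, map_neg, rO_fix (ho _ _ (Fin.succ_ne_zero i).symm)]

/-- A frame of norm one when minus the identity lies in `Ω`. -/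
theorem exists_ones_basis (hQ : Nondeg Q) (h2 : (2 : F) ≠ 0) {l : ℕ} (hl : finrank F V = 2 * l)
    (hl1 : 1 ≤ l) (g : commutator (O Q)) (hg : ∀ x, ((g : O Q) : V ≃ₗ[F] V) x = -x) :
    ∃ a b : Fin l → V, (∀ i, Q (a i) = 1) ∧ (∀ i, Q (b i) = 1) ∧
      (∀ i j, polar Q (a i) (b j) = 0) ∧ (∀ i j, i ≠ j → polar Q (a i) (a j) = 0) ∧
      ∀ i j, i ≠ j → polar Q (b i) (b j) = 0 := by
  classical
  obtain ⟨k, hk⟩ : ∃ k, finrank F V = k + 1 := ⟨2 * l - 1, by omega⟩
  obtain ⟨w, hw, ho⟩ := exists_orth_ones hQ h2 k (by omega)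
  obtain ⟨hn, hf⟩ := nondeg_span_orth h2 w (fun i => by rw [hw]; exact one_ne_zero) ho
  have hperp1 : finrank F (perp Q (Submodule.span F (Set.range w))) = 1 := by
    have := hQ.finrank_add_perp (Submodule.span F (Set.range w)); omega
  have : Nontrivial (perp Q (Submodule.span F (Set.range w))) :=
    Module.nontrivial_of_finrank_pos (R := F) (by omega)
  obtain ⟨z', hz'⟩ := exists_ne (0 : perp Q (Submodule.span F (Set.range w)))
  obtain ⟨⟨z, hz⟩, hzQ⟩ := exists_anisotropic (hQ.nondeg_perp hn) hz'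
  have hzQ' : Q z ≠ 0 := hzQ
  have hw' : ∀ i, Q ((Fin.cons z w : Fin (k + 1) → V) i) ≠ 0 := fun i => by
    refine Fin.cases ?_ (fun i => ?_) i
    · simpa using hzQ'
    · simp [hw]
  have ho' : ∀ i j, i ≠ j → polar Q ((Fin.cons z w : Fin (k + 1) → V) i)
      ((Fin.cons z w : Fin (k + 1) → V) j) = 0 := by
    intro i j
    refine Fin.cases ?_ (fun i => ?_) i <;> refine Fin.cases ?_ (fun j => ?_) j <;> intro hij
    · exact absurd rfl hij
    · simpa using (polar_comm _ _ _).trans (hz _ (Submodule.subset_span ⟨j, rfl⟩))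
    · simpa using hz _ (Submodule.subset_span ⟨i, rfl⟩)
    · simpa using ho i j fun h => hij (by rw [h])
  obtain ⟨-, hneg⟩ := prod_refl_orth Q _ hw' ho'
  have hspan := (li_orth h2 _ hw' ho').span_eq_top_of_card_eq_finrank' (by rw [Fintype.card_fin, hk])
  have hge : ((List.ofFn (Fin.cons z w : Fin (k + 1) → V)).map (rO Q)).prod = (g : O Q) := by
    refine Subtype.ext (LinearEquiv.toLinearMap_injective (LinearMap.ext_on_range hspan fun i => ?_))
    exact (hneg i).trans (hg _).symm
  have hs := ((mem_commutator_iff hQ h2 _).1 g.2).2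
  rw [← hge, spinor_list hQ h2 (by
    intro v hv
    obtain ⟨i, rfl⟩ := List.mem_ofFn.1 hv
    exact hw' i)] at hs
  have hprod : ((List.ofFn (Fin.cons z w : Fin (k + 1) → V)).map fun v => Q v).prod = Q z := by
    rw [List.map_ofFn, List.prod_ofFn, Fin.prod_univ_succ]
    simp [hw]
  rw [hprod, sqSign_eq_one_iff] at hs
  obtain ⟨t, ht⟩ := hs
  have ht0 : t ≠ 0 := fun h => hzQ' (by rw [ht, h, mul_zero])
  obtain ⟨W, hW, hWo⟩ : ∃ W : Fin (k + 1) → V, (∀ i, Q (W i) = 1) ∧
      ∀ i j, i ≠ j → polar Q (W i) (W j) = 0 := by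
    refine ⟨Fin.cons (t⁻¹ • z) w, fun i => ?_, ?_⟩
    · refine Fin.cases ?_ (fun i => ?_) i
      · rw [Fin.cons_zero, qmap_smul, ht]; field_simp
      · simp [hw]
    · intro i j
      refine Fin.cases ?_ (fun i => ?_) i <;> refine Fin.cases ?_ (fun j => ?_) j <;> intro hij
      · exact absurd rfl hij
      · have := ho' 0 j.succ (Fin.succ_ne_zero j).symm
        simp only [Fin.cons_zero, Fin.cons_succ] at this ⊢
        rw [polar_smul_left', this, mul_zero]
      · have := ho' i.succ 0 (Fin.succ_ne_zero i)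
        simp only [Fin.cons_zero, Fin.cons_succ] at this ⊢
        rw [polar_smul_right', this, mul_zero]
      · simpa using ho i j fun h => hij (by rw [h])
  refine ⟨fun i => W ⟨2 * i.1, by omega⟩, fun i => W ⟨2 * i.1 + 1, by omega⟩, fun i => hW _,
    fun i => hW _, fun i j => hWo _ _ (Fin.ne_of_val_ne (by simp; omega)),
    fun i j h => hWo _ _ (Fin.ne_of_val_ne (by simp; exact fun e => h (Fin.ext e))),
    fun i j h => hWo _ _ (Fin.ne_of_val_ne (by simp; exact fun e => h (Fin.ext e)))⟩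

variable {ι : Type} [Fintype ι] [DecidableEq ι] {P : QuadraticForm F (ι → F)}

/-- The multiplier from the bound two, through the spin cover. -/
theorem exists_cover_pomega (hQ : Nondeg P) (h2 : (2 : F) ≠ 0) (h7 : 7 ≤ finrank F (ι → F))
    (hM : MultLE (commutator (O P)) 2) :
    ∃ (E : Type u) (_ : Group E) (_ : Finite E) (π : E →* commutator (O P)) (ε : E)
      (Θ : E →* Cfsg.POmega F (⇑P)),
      Group.IsPerfect E ∧ Cfsg.HasCyclicSchurMultiplier E 1 ∧ Function.Surjective Θ ∧
      Θ.ker ≤ Subgroup.center E ∧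
      Nat.card Θ.ker = 2 * Nat.card (Subgroup.center (Cfsg.Omega F (⇑P))) ∧
      π ε = 1 ∧ ε ≠ 1 ∧ Nat.card π.ker = 2 ∧
      (∀ z, z ∈ Θ.ker ↔ (omegaEquiv P).symm (π z) ∈ Subgroup.center (Cfsg.Omega F (⇑P))) ∧
      ∀ (l : ℕ) (a b : Fin l → ι → F), 3 ≤ l → finrank F (ι → F) = 2 * l → (∀ i, P (a i) = 1) →
        (∀ i, P (b i) = 1) → (∀ i j, polar P (a i) (b j) = 0) →
        (∀ i j, i ≠ j → polar P (a i) (a j) = 0) → (∀ i j, i ≠ j → polar P (b i) (b j) = 0) →
        ∃ y : E, (∀ x, ((π y : O P) : (ι → F) ≃ₗ[F] (ι → F)) x = -x) ∧ y * y = ε ^ l := by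
  classical
  obtain ⟨w, hw, ho⟩ := exists_orth_ones hQ h2 3 (by omega)
  obtain ⟨E, _, _, π, ε, hperf, hπ, hπc, hε, hε1, hy⟩ := exists_spin_cover h2 hQ (by omega) (hw 0)
    (hw 1) (hw 2) (ho 0 1 (by decide)) (ho 0 2 (by decide)) (ho 1 2 (by decide))
  have hπst : Cfsg.IsStemExtension π := ⟨hπ, hπc, by rw [Group.isPerfect_def.1 hperf]; exact le_top⟩
  have h2' : Nat.card π.ker = 2 := by
    refine le_antisymm (hM E π hπst) ?_
    have : Nontrivial π.ker := ⟨⟨⟨ε, hε⟩, 1, fun h => hε1 (congrArg Subtype.val h)⟩⟩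
    exact Finite.one_lt_card
  have hE1 : Cfsg.HasCyclicSchurMultiplier E 1 := by
    refine Cfsg.Agent.H74.Schur.hasCyclicSchurMultiplier_one fun Δ _ _ τ hτ => ?_
    obtain ⟨-, hst, hcard⟩ := stem_comp hperf hτ hπ hπc
    have := hM Δ _ hst
    rw [hcard, h2'] at this
    exact Subgroup.card_eq_one.1 (le_antisymm (by omega) Nat.card_pos)
  let Z := Subgroup.center (Cfsg.Omega F (⇑P))
  let σ : E →* Cfsg.Omega F (⇑P) := (omegaEquiv P).symm.toMonoidHom.comp π
  have hσk : σ.ker = π.ker := by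
    ext x
    rw [MonoidHom.mem_ker, MonoidHom.mem_ker, MonoidHom.comp_apply]
    exact (omegaEquiv P).symm.map_eq_one_iff
  have hσst : Cfsg.IsStemExtension σ :=
    ⟨(omegaEquiv P).symm.surjective.comp hπ, hσk ▸ hπst.2.1, hσk ▸ hπst.2.2⟩
  have hperfΩ : Group.IsPerfect (Cfsg.Omega F (⇑P)) := by
    rw [Group.isPerfect_def, ← Subgroup.map_top_of_surjective σ hσst.1,
      ← Group.isPerfect_def.1 hperf, Cfsg.Agent.H74.Schur.map_commutator_of_surjective σ hσst.1]
  obtain ⟨-, hst, hcard⟩ := stem_comp hperfΩ hσst (π := QuotientGroup.mk' Z)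
    (QuotientGroup.mk'_surjective Z) (QuotientGroup.ker_mk' Z).le
  refine ⟨E, inferInstance, inferInstance, π, ε, (QuotientGroup.mk' Z).comp σ, hperf, hE1, hst.1,
    hst.2.1, ?_, hε, hε1, h2', fun z => QuotientGroup.eq_one_iff _, hy⟩
  rw [hcard, hσk, h2', QuotientGroup.ker_mk']

/-- Trivial centre: the multiplier has order two. -/
theorem multiplier_center_one (hQ : Nondeg P) (h2 : (2 : F) ≠ 0) (h7 : 7 ≤ finrank F (ι → F))
    (hM : MultLE (commutator (O P)) 2) (hone : Nat.card (Subgroup.center (Cfsg.Omega F (⇑P))) = 1) :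
    Cfsg.HasCyclicSchurMultiplier (Cfsg.POmega F (⇑P)) 2 := by
  obtain ⟨E, _, _, π, ε, Θ, hperf, hE1, hΘ, hΘc, hcard, -⟩ := exists_cover_pomega hQ h2 h7 hM
  rw [hone, mul_one] at hcard
  have : Fact (Nat.Prime 2) := ⟨Nat.prime_two⟩
  exact Cfsg.Agent.Linear.Mult.hasCyclicSchurMultiplier_of_cover hperf hE1 Θ hΘ hΘc
    (isCyclic_of_prime_card hcard) hcard

/-- A centre of order two: the multiplier has order four. -/
theorem multiplier_center_two (hQ : Nondeg P) (h2 : (2 : F) ≠ 0) {l : ℕ} (hl : 4 ≤ l)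
    (hn : finrank F (ι → F) = 2 * l) (hM : MultLE (commutator (O P)) 2)
    (g : Cfsg.isometryGroup F (⇑P)) (hg : g ∈ Cfsg.Omega F (⇑P))
    (hgm : ((g : Matrix.GeneralLinearGroup ι F) : Matrix ι ι F) = -1) :
    (Odd l → Cfsg.HasCyclicSchurMultiplier (Cfsg.POmega F (⇑P)) 4) ∧
      (Even l → Cfsg.HasSchurMultiplier (Cfsg.POmega F (⇑P)) (Multiplicative (ZMod 2 × ZMod 2))) := by
  classical
  obtain ⟨E, _, _, π, ε, Θ, hperf, hE1, hΘ, hΘc, hcard, hε, hε1, hπ2, hiff, hy⟩ :=
    exists_cover_pomega hQ h2 (by omega) hM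
  have hne : (-1 : Matrix ι ι F) ≠ 1 := fun h => by
    have : Nonempty ι := by
      by_contra hemp
      rw [not_nonempty_iff] at hemp
      rw [Module.finrank_fintype_fun_eq_card, Fintype.card_eq_zero] at hn
      omega
    obtain ⟨i⟩ := this
    have := congr_fun (congr_fun h i) i
    rw [Matrix.neg_apply, Matrix.one_apply_eq] at this
    exact h2 (by linear_combination -this)
  have hZ := card_center_omega_eq_two hQ (by omega) hne g hg hgm
  rw [hZ] at hcard
  have hgx : ∀ x, ((omegaEquiv P ⟨g, hg⟩ : O P) : (ι → F) ≃ₗ[F] (ι → F)) x = -x := fun x => by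
    rw [coe_omegaEquiv, toO_apply, hgm, Matrix.neg_mulVec, Matrix.one_mulVec]
  obtain ⟨a, b, ha, hb, hab, haa, hbb⟩ := exists_ones_basis hQ h2 hn (by omega) _ hgx
  obtain ⟨y, hyπ, hy2⟩ := hy l a b (by omega) hn ha hb hab haa hbb
  have hπy : π y = omegaEquiv P ⟨g, hg⟩ :=
    Subtype.ext (O.ext_app fun x => (hyπ x).trans (hgx x).symm)
  have hεk : ∀ z, π z = 1 → z = 1 ∨ z = ε := by
    intro z hz
    obtain ⟨x, hx, huniq⟩ := (Nat.card_eq_two_iff' (1 : π.ker)).1 hπ2
    by_contra hcon
    push Not at hcon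
    have k1 := huniq ⟨z, hz⟩ fun h => hcon.1 (congrArg Subtype.val h)
    have k2 := huniq ⟨ε, hε⟩ fun h => hε1 (congrArg Subtype.val h)
    exact hcon.2 (congrArg Subtype.val (k1.trans k2.symm))
  have hε2 : ε * ε = 1 := by
    rcases hεk (ε * ε) (by rw [map_mul, hε, one_mul]) with h | h
    · exact h
    · exact absurd (mul_left_cancel (h.trans (mul_one ε).symm)) hε1
  have hπy1 : π y ≠ 1 := fun h => by
    have : Nontrivial (ι → F) := Module.nontrivial_of_finrank_pos (R := F) (by omega)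
    obtain ⟨x, hx⟩ := exists_ne (0 : ι → F)
    have h' := hyπ x
    rw [h] at h'
    have h'' : x + x = 0 := by nth_rw 1 [show x = -x from h']; exact neg_add_cancel x
    rw [← two_smul F x, smul_eq_zero] at h''
    exact h''.elim h2 hx
  have hyker : y ∈ Θ.ker := (hiff y).2 (by
    rw [hπy, MulEquiv.symm_apply_apply]
    refine Subgroup.mem_center_iff.2 fun z => Subtype.ext (Subtype.ext (Units.ext ?_))
    simp only [Subgroup.coe_mul, Units.val_mul, hgm, mul_neg, neg_mul, mul_one, one_mul])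
  constructor
  · intro hodd
    have hy2' : y * y = ε := by
      obtain ⟨j, rfl⟩ := hodd
      rw [hy2, pow_succ, pow_mul, pow_two, hε2, one_pow, one_mul]
    have hord : orderOf (⟨y, hyker⟩ : Θ.ker) = 4 := by
      have h4 : (⟨y, hyker⟩ : Θ.ker) ^ (2 ^ 2) = 1 := Subtype.ext (by
        show y ^ (2 ^ 2) = 1
        rw [show (2 : ℕ) ^ 2 = 2 * 2 by norm_num, pow_mul, pow_two y, hy2', pow_two, hε2])
      have h2n : ¬ (⟨y, hyker⟩ : Θ.ker) ^ (2 ^ 1) = 1 := fun h => hε1 (by
        have := congrArg Subtype.val h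
        rwa [SubmonoidClass.coe_pow, pow_one, pow_two, hy2'] at this)
      have : Fact (Nat.Prime 2) := ⟨Nat.prime_two⟩
      rw [orderOf_eq_prime_pow h2n h4]
      norm_num
    refine Cfsg.Agent.Linear.Mult.hasCyclicSchurMultiplier_of_cover hperf hE1 Θ hΘ hΘc
      (isCyclic_of_orderOf_eq_card (⟨y, hyker⟩ : Θ.ker) (by rw [hord, hcard])) ?_
    rw [hcard]
  · intro heven
    have hy2' : y * y = 1 := by
      obtain ⟨j, rfl⟩ := heven
      rw [hy2, ← two_mul, pow_mul, pow_two, hε2, one_pow]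
    have hsq : ∀ z : Θ.ker, z * z = 1 := by
      rintro ⟨z, hz⟩
      refine Subtype.ext ?_
      show z * z = 1
      have hc := Subgroup.mem_center_iff.1 (hΘc hz)
      have hzc := (hiff z).1 hz
      obtain ⟨t, ht, huniq⟩ := (Nat.card_eq_two_iff' (1 : Subgroup.center (Cfsg.Omega F (⇑P)))).1 hZ
      by_cases hz1 : π z = 1
      · rcases hεk z hz1 with h | h <;> rw [h]
        · exact one_mul 1
        · exact hε2
      · have k1 := huniq ⟨_, hzc⟩ fun h => hz1 ((omegaEquiv P).symm.map_eq_one_iff.1 (congrArg Subtype.val h))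
        have k2 := huniq ⟨_, (hiff y).1 hyker⟩ fun h =>
          hπy1 ((omegaEquiv P).symm.map_eq_one_iff.1 (congrArg Subtype.val h))
        have heq : π z = π y := (omegaEquiv P).symm.injective (congrArg Subtype.val (k1.trans k2.symm))
        have hcy := Subgroup.mem_center_iff.1 (hΘc hyker)
        rcases hεk (y⁻¹ * z) (by rw [map_mul, map_inv, heq, inv_mul_cancel]) with h | h
        · rw [← inv_mul_eq_one.1 h, hy2']
        · rw [eq_mul_of_inv_mul_eq h, show y * ε * (y * ε) = y * (ε * y) * ε by group, hcy ε, ← mul_assoc,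
            hy2', one_mul, hε2]
    have hk : IsKleinFour Θ.ker := by
      refine ⟨by rw [hcard], ?_⟩
      have : Nontrivial Θ.ker := Finite.one_lt_card_iff_nontrivial.1 (by omega)
      exact Monoid.exponent_eq_prime_iff Nat.prime_two |>.2 fun z hz =>
        orderOf_eq_prime (by rw [pow_two]; exact hsq z) hz
    have hk' : IsKleinFour (Multiplicative (ZMod 2 × ZMod 2)) := inferInstance
    obtain ⟨i⟩ := IsKleinFour.nonempty_mulEquiv (G₁ := Θ.ker) (G₂ := Multiplicative (ZMod 2 × ZMod 2))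
    exact Cfsg.Agent.Linear.Mult.hasSchurMultiplier_of_cover hperf hE1 Θ hΘ hΘc i

end Cfsg.Agent.H97.Omega
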