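/-
Three elements: the multiplier bound in dimension eight of plus type, through Steinberg's group of
type `D₄`.
-/
import Cfsg.Agent.H97.Omega.OddBase
import Cfsg.Agent.H38.St.Centre
import Cfsg.Agent.S1077
import Cfsg.Agent.S0790
import Cfsg.Agent.S2395
import Cfsg.Agent.S1082
import Cfsg.Agent.S2400
import Cfsg.Agent.Linear.Mult.CentralQuot

set_option autoImplicit false
set_option linter.unusedSectionVars false
set_option maxHeartbeats 1000000

namespace Cfsg.Agent.H97.Omega

open Cfsg.Lie Cfsg.Lie.ChevalleyDatum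
open Cfsg.Agent.Orthogonal

universe u

variable {F : Type u} [Field F] [Fintype F]

/-- The centre of Steinberg's group of type `D₄` over three elements. -/
theorem card_center_stD4_le (h3 : Fintype.card F = 3) :
    Nat.card (Subgroup.center (chevD4.SteinbergGroup F)) ≤ 4 := by
  classical
  obtain ⟨Q, hrel, hA⟩ := H38.St.exists_stData (show chevD4 ∈ [chevG2, chevB2, chevD4, chevF4, chevE6,
    chevE7, chevE8] by simp) F
  obtain ⟨η, -, hρ, hr⟩ := H38.St.exists_eta (F := F) Q.K hA
  have hmem : ∀ g : Subgroup.center (chevD4.SteinbergGroup F), ∃ c, η c = g.1 ∧ Chevalley.torus chevD4 F c = 1 := by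
    intro g
    obtain ⟨h1, h2⟩ := H38.St.center_le_eta Q hrel hA g.2
    rw [← hr] at h2
    obtain ⟨c, hc⟩ := h2
    exact ⟨c, hc, by rw [← hρ, MonoidHom.comp_apply, hc, h1]⟩
  choose c hc ht using hmem
  let i0 : Fin chevD4.rank := ⟨0, by decide⟩
  let i1 : Fin chevD4.rank := ⟨1, by decide⟩
  let i2 : Fin chevD4.rank := ⟨2, by decide⟩
  let i3 : Fin chevD4.rank := ⟨3, by decide⟩
  have hsq : ∀ x : Fˣ, x * x = 1 := fun x => by
    have h := pow_card_eq_one' (x := x)
    rwa [Nat.card_eq_fintype_card, Fintype.card_units, h3, pow_two] at h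
  have hrel2 : ∀ g, c g i1 = 1 ∧ c g i3 = c g i0 * c g i2 := by
    intro g
    have key : ∀ j < chevD4.rank,
        ∏ m : Fin chevD4.rank, c g m ^ chevD4.cartan m (chevD4.simple j) = 1 := fun j hj => by
      have h := (H38.St.torus_eq_one_iff Q.K (c g)).1 (ht g) j hj
      rwa [H38.St.sum_addC (c g) fun m => chevD4.cartan m (chevD4.simple j), ofMul_eq_zero] at h
    have huniv : (Finset.univ : Finset (Fin chevD4.rank)) = {i0, i1, i2, i3} := by decide
    have k0 := key 0 (by decide)
    have k1 := key 1 (by decide)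
    rw [huniv, Finset.prod_insert (by decide), Finset.prod_insert (by decide),
      Finset.prod_insert (by decide), Finset.prod_singleton] at k0 k1
    rw [show chevD4.cartan i0 (chevD4.simple 0) = 2 by decide +kernel,
      show chevD4.cartan i1 (chevD4.simple 0) = -1 by decide +kernel,
      show chevD4.cartan i2 (chevD4.simple 0) = 0 by decide +kernel,
      show chevD4.cartan i3 (chevD4.simple 0) = 0 by decide +kernel,
      zpow_neg_one, zpow_zero, zpow_zero, mul_one, mul_one, zpow_two, hsq, one_mul, inv_eq_one] at k0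
    rw [show chevD4.cartan i0 (chevD4.simple 1) = -1 by decide +kernel,
      show chevD4.cartan i1 (chevD4.simple 1) = 2 by decide +kernel,
      show chevD4.cartan i2 (chevD4.simple 1) = -1 by decide +kernel,
      show chevD4.cartan i3 (chevD4.simple 1) = -1 by decide +kernel,
      zpow_neg_one, zpow_neg_one, zpow_neg_one, zpow_two, hsq, one_mul, ← mul_assoc, mul_inv_eq_one,
      ← mul_inv] at k1
    exact ⟨k0, by rw [← k1, inv_eq_iff_mul_eq_one.2 (hsq _)]⟩
  have hinj : Function.Injective fun g => (c g i0, c g i2) := by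
    intro g g' h
    simp only [Prod.mk.injEq] at h
    refine Subtype.ext ((hc g).symm.trans (Eq.trans (congrArg η (funext fun m => ?_)) (hc g')))
    have hall : m = i0 ∨ m = i1 ∨ m = i2 ∨ m = i3 := by revert m; decide
    rcases hall with rfl | rfl | rfl | rfl
    exacts [h.1, (hrel2 g).1.trans (hrel2 g').1.symm, h.2, by rw [(hrel2 g).2, (hrel2 g').2, h.1, h.2]]
  refine (Nat.card_le_card_of_injective _ hinj).trans (le_of_eq ?_)
  rw [Nat.card_prod, Nat.card_eq_fintype_card, Fintype.card_units, h3]

/-- Three elements, plus type, dimension eight. -/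
theorem multLE_eight_plus (h3 : Fintype.card F = 3) : MultLE (commutator (O (formPlus F 4))) 2 := by
  classical
  set Q := formPlus F 4 with hQdef
  have hQ : Nondeg Q := formPlus_nondeg F 4
  have hn : 5 ≤ Module.finrank F (Fin 4 ⊕ Fin 4 → F) := by rw [finrank_formPlus]; omega
  have hmemD : chevD4 ∈ [chevG2, chevB2, chevD4, chevF4, chevE6, chevE7, chevE8] := by simp
  obtain ⟨θ, hθ, hker, -⟩ := S1077.result (K := F) chevD4 hmemD
  obtain ⟨e⟩ := S1082.result (F := F)
  have h1 : Cfsg.HasCyclicSchurMultiplier (chevD4.SteinbergGroup F) 1 :=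
    S2400.result (chevD4, 2) (by simp) (show Fintype.card F ≠ 2 by omega)
  have hfinSt : Finite (chevD4.SteinbergGroup F) := by
    obtain ⟨⟨Γ, _, _, σ, hσ, -⟩, -⟩ := h1
    exact Cfsg.Agent.H74.Schur.finite_of_isStemExtension hσ
  have hperfSt : Group.IsPerfect (chevD4.SteinbergGroup F) := by
    obtain ⟨D, hrel, hA⟩ := H38.St.exists_stData hmemD F
    obtain ⟨φ, -⟩ := H38.St.cover_equiv D hrel hA
    have hp : commutator (chevD4.SteinbergCover F) = ⊤ := by
      refine S2395.result chevD4 hmemD fun h => ?_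
      exfalso
      simp only [List.mem_cons, List.not_mem_nil, or_false] at h
      rcases h with h | h <;> simpa [chevD4, chevG2, chevB2] using congrArg ChevalleyDatum.rank h
    rw [Group.isPerfect_def, ← Subgroup.map_top_of_surjective φ.toMonoidHom φ.surjective, ← hp,
      Cfsg.Agent.H74.Schur.map_commutator_of_surjective φ.toMonoidHom φ.surjective]
  have hperf : Group.IsPerfect (Cfsg.Omega F (⇑Q)) := by
    have hperfO : Group.IsPerfect (commutator (O Q)) :=
      Subgroup.isPerfect_iff.2 (commutator_commutator hQ hn)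
    rw [Group.isPerfect_def]
    have := Cfsg.Agent.H74.Schur.map_commutator_of_surjective (omegaEquiv Q).symm.toMonoidHom
      (omegaEquiv Q).symm.surjective
    rw [Group.isPerfect_def.1 hperfO, Subgroup.map_top_of_surjective _ (omegaEquiv Q).symm.surjective]
      at this
    exact this.symm
  let Θ : chevD4.SteinbergGroup F →* Cfsg.POmega F (⇑Q) := e.toMonoidHom.comp θ
  have hΘk : Θ.ker = θ.ker := by
    ext x
    rw [MonoidHom.mem_ker, MonoidHom.mem_ker]
    exact e.map_eq_one_iff
  refine MultLE.congr' (omegaEquiv Q) ?_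
  intro Γ _ _ σ hσ
  let Z := Subgroup.center (Cfsg.Omega F (⇑Q))
  obtain ⟨-, hst, hcard⟩ := stem_comp hperf hσ (π := QuotientGroup.mk' Z)
    (QuotientGroup.mk'_surjective Z) (QuotientGroup.ker_mk' Z).le
  obtain ⟨f, hf⟩ := Cfsg.Agent.Linear.Mult.exists_ker_surjection hperfSt h1 Θ (e.surjective.comp hθ) _ hst
  have hle := Nat.card_le_card_of_surjective f hf
  have hodd : Odd (Fintype.card F) := by rw [h3]; decide
  obtain ⟨g, hg, hgm⟩ := (S0790.result (F := F) rfl hodd 4 (by omega)).2 (by rw [h3]; norm_num)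
  have h2 : (2 : F) ≠ 0 := fun h => by
    have := FiniteField.even_card_of_char_two
      (CharP.ringChar_of_prime_eq_zero Nat.prime_two (by exact_mod_cast h) : ringChar F = 2)
    omega
  have hne : (-1 : Matrix (Fin 4 ⊕ Fin 4) (Fin 4 ⊕ Fin 4) F) ≠ 1 := fun h => by
    have := congr_fun (congr_fun h (Sum.inl 0)) (Sum.inl 0)
    rw [Matrix.neg_apply, Matrix.one_apply_eq] at this
    exact h2 (by linear_combination -this)
  rw [hcard, QuotientGroup.ker_mk', card_center_omega_eq_two hQ hn hne g hg hgm, hΘk, hker] at hle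
  have := card_center_stD4_le (F := F) h3
  omega

end Cfsg.Agent.H97.Omega
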